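import Groth.Agent.Fano.K519.FlatUniv
import Mathlib.AlgebraicGeometry.Morphisms.FlatMono

/-!
# The space of maps is open over the chart of curves
-/

set_option autoImplicit false
universe u

open CategoryTheory AlgebraicGeometry Limits TopologicalSpace Opposite

namespace K519.FlatUniv

open Groth.Agent K505.KonDef K519.LinTree

variable {k : Type u} [Field k] {r m n d e δ : ℕ} {c : CrvChart k (r + m)} {G : LefPen.Form n k d}

/-- The space of maps is locally of finite presentation over the base of the chart. -/
theorem locallyOfFinitePresentation {ℓ : LinChart c G e} (Un : Univ ℓ) :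
    LocallyOfFinitePresentation Un.D.h.base.left := by
  have hUaff := c.isAffine
  have hj := Un.isOpenImmersion
  rw [Un.base]
  change LocallyOfFinitePresentation
    (Un.j ≫ Spec.map (CommRingCat.ofHom (algebraMap c.R ℓ.RV)) ≫ (c.U.left.isoSpec).inv)
  have h1 : Algebra.FinitePresentation c.R ℓ.RV :=
    Algebra.FinitePresentation.quotient (Submodule.fg_span (Set.finite_range ℓ.P))
  have h2 : LocallyOfFinitePresentation (Spec.map (CommRingCat.ofHom (algebraMap c.R ℓ.RV))) := by
    rw [HasRingHomProperty.Spec_iff (P := @LocallyOfFinitePresentation)]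
    exact (RingHom.finitePresentation_algebraMap (A := c.R) (B := ℓ.RV)).2 h1
  infer_instance

/-- The morphism from the space of maps to the base of the chart of curves is open. -/
theorem isOpenMap {ℓ : LinChart c G e} (Un : Univ ℓ) (hG : G.1 ≠ 0) (hb : ArcBound G.1 δ) (hδ : δ + d = n + 1) :
    IsOpenMap Un.D.h.base.left := by
  have h1 := flat Un hG hb hδ
  have h2 := locallyOfFinitePresentation Un
  exact Un.D.h.base.left.isOpenMap

/-- The preimage of a dense set in the space of maps is dense. -/
theorem dense_preimage {ℓ : LinChart c G e} (Un : Univ ℓ) (hG : G.1 ≠ 0) (hb : ArcBound G.1 δ) (hδ : δ + d = n + 1)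
    {W : Set c.U.left} (hW : Dense W) : Dense (Un.D.h.base.left ⁻¹' W) :=
  hW.preimage (isOpenMap Un hG hb hδ)

end K519.FlatUniv
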