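import Groth.Agent.Fano.K519.TrBound
import Groth.Agent.Fano.K254.HartCI
import Groth.Agent.Ega4dB.FlatRegC
import Groth.Agent.Fano.K714.DimMv
import Mathlib.RingTheory.TensorProduct.MvPolynomial

/-!
# Flatness of a family of complete intersections in affine space

`flat_of_trdeg`: `A[X_s : s ∈ σ]/(P_1, …, P_c)` is flat over `A` at a prime `q` if the fibre through `q` has dimension at most
`#σ - c` at `q`, in the form: for each generization of `q` in its fibre, with values `x` over a field, the transcendence degree
of `x` is at most `m` and `m + c ≤ #σ`.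
-/

set_option autoImplicit false
universe u

open MvPolynomial IsLocalRing RingTheory.Sequence TensorProduct

namespace K519.FlatSlice

open K519.TrBound

attribute [local instance] MvPolynomial.algebraMvPolynomial

section Loc

variable {A : Type u} [CommRing A] {σ : Type} (p : Ideal A) [p.IsPrime]

theorem exists_clear (g : MvPolynomial σ p.ResidueField) :
    ∃ (a : A) (b : MvPolynomial σ A), a ∉ p ∧ b.map (algebraMap A p.ResidueField) = C (algebraMap A p.ResidueField a) * g := by
  induction g using MvPolynomial.induction_on with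
  | C c =>
    obtain ⟨x, y, hy, rfl⟩ := IsFractionRing.div_surjective (A := A ⧸ p) c
    obtain ⟨x, rfl⟩ := Ideal.Quotient.mk_surjective x
    obtain ⟨y, rfl⟩ := Ideal.Quotient.mk_surjective y
    have hy' : y ∉ p := by
      intro h
      exact nonZeroDivisors.ne_zero hy (Ideal.Quotient.eq_zero_iff_mem.2 h)
    have hy0 : algebraMap A p.ResidueField y ≠ 0 := by
      rwa [Ne, Ideal.algebraMap_residueField_eq_zero]
    refine ⟨y, C x, hy', ?_⟩
    rw [map_C, Ideal.algebraMap_quotient_residueField_mk, Ideal.algebraMap_quotient_residueField_mk, ← C_mul,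
      mul_div_cancel₀ _ hy0]
  | add g h hg hh =>
    obtain ⟨a, b, ha, hb⟩ := hg
    obtain ⟨a', b', ha', hb'⟩ := hh
    refine ⟨a * a', C a' * b + C a * b', fun h => (Ideal.IsPrime.mem_or_mem inferInstance h).elim ha ha', ?_⟩
    rw [map_add, map_mul, map_mul, map_mul (algebraMap A p.ResidueField), hb, hb', map_C, map_C, C_mul]
    ring
  | mul_X g i hg =>
    obtain ⟨a, b, ha, hb⟩ := hg
    refine ⟨a, b * X i, ha, ?_⟩
    rw [map_mul, hb, map_X, mul_assoc]

end Loc

section Main

variable {A : Type u} [CommRing A] {σ : Type} (p : Ideal A) [p.IsPrime] (q : Ideal (MvPolynomial σ A)) [q.IsPrime]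
  (Q : Ideal (MvPolynomial σ p.ResidueField)) [Q.IsPrime]

/-- The local ring of the fibre is the localization of the fibre. -/
theorem isLocalizedModule (hp : q.comap (algebraMap A (MvPolynomial σ A)) = p)
    (hQ : Q.comap (algebraMap (MvPolynomial σ A) (MvPolynomial σ p.ResidueField)) = q) :
    IsLocalizedModule q.primeCompl
      ((Algebra.linearMap (MvPolynomial σ p.ResidueField) (Localization.AtPrime Q)).restrictScalars
        (MvPolynomial σ A)) := by
  have hnq : ∀ s : MvPolynomial σ A, s ∉ q →
      algebraMap (MvPolynomial σ A) (MvPolynomial σ p.ResidueField) s ∉ Q := by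
    intro s hs h
    apply hs
    rw [← hQ]
    exact h
  refine ⟨?_, ?_, ?_⟩
  · intro s
    rw [Module.End.isUnit_iff]
    have hu : IsUnit (algebraMap (MvPolynomial σ A) (Localization.AtPrime Q) s.1) := by
      rw [IsScalarTower.algebraMap_apply (MvPolynomial σ A) (MvPolynomial σ p.ResidueField)]
      exact IsLocalization.map_units (Localization.AtPrime Q) (⟨_, hnq s.1 s.2⟩ : Q.primeCompl)
    have h1 : ∀ x : Localization.AtPrime Q, algebraMap (MvPolynomial σ A) (Module.End (MvPolynomial σ A)
        (Localization.AtPrime Q)) s.1 x = algebraMap (MvPolynomial σ A) (Localization.AtPrime Q) s.1 * x := by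
      intro x
      rw [Module.algebraMap_end_apply, Algebra.smul_def]
    constructor
    · intro x y hxy
      rw [h1, h1] at hxy
      exact hu.mul_left_cancel hxy
    · intro y
      obtain ⟨u, hu⟩ := hu
      refine ⟨↑u⁻¹ * y, ?_⟩
      rw [h1, ← hu, ← mul_assoc, Units.mul_inv, one_mul]
  · intro y
    obtain ⟨⟨f, g⟩, hfg⟩ := IsLocalization.surj Q.primeCompl y
    obtain ⟨a, b, ha, hb⟩ := exists_clear p g.1
    have hbq : b ∉ q := by
      intro h
      rw [← hQ] at h
      have h2 : b.map (algebraMap A p.ResidueField) ∈ Q := h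
      rw [hb] at h2
      rcases Ideal.IsPrime.mem_or_mem inferInstance h2 with h3 | h3
      · apply ha
        rw [← hp]
        change algebraMap A (MvPolynomial σ A) a ∈ q
        rw [← hQ]
        have h4 : algebraMap (MvPolynomial σ A) (MvPolynomial σ p.ResidueField) (algebraMap A (MvPolynomial σ A) a) =
            C (algebraMap A p.ResidueField a) := map_C _ _
        change algebraMap (MvPolynomial σ A) (MvPolynomial σ p.ResidueField) (algebraMap A (MvPolynomial σ A) a) ∈ Q
        rw [h4]
        exact h3
      · exact g.2 h3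
    refine ⟨⟨C (algebraMap A p.ResidueField a) * f, ⟨b, hbq⟩⟩, ?_⟩
    change b • y = algebraMap _ _ (C (algebraMap A p.ResidueField a) * f)
    rw [Algebra.smul_def, IsScalarTower.algebraMap_apply (MvPolynomial σ A) (MvPolynomial σ p.ResidueField)]
    have h4 : algebraMap (MvPolynomial σ A) (MvPolynomial σ p.ResidueField) b = b.map (algebraMap A p.ResidueField) := rfl
    rw [h4, hb, map_mul, map_mul, ← hfg]
    ring
  · intro x y hxy
    refine ⟨1, ?_⟩
    have h1 : Function.Injective (algebraMap (MvPolynomial σ p.ResidueField) (Localization.AtPrime Q)) :=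
      IsLocalization.injective _ Q.primeCompl_le_nonZeroDivisors
    rw [h1 hxy]

end Main

section Reg

variable {κ : Type u} [Field κ] {σ : Type} [Finite σ] {c : ℕ} (f : Fin c → MvPolynomial σ κ)
  (Q : Ideal (MvPolynomial σ κ)) [Q.IsPrime]

/-- In the local ring of a polynomial ring over a field, `c` elements which define a subscheme of codimension `c` form a
regular sequence. -/
theorem isRegular (hf : ∀ i, f i ∈ Q)
    (h : ∀ Q' : Ideal (MvPolynomial σ κ), Q'.IsPrime → Q' ≤ Q → (∀ i, f i ∈ Q') → (c : ℕ∞) ≤ Q'.height) :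
    IsRegular (Localization.AtPrime Q) ((List.ofFn f).map (algebraMap _ (Localization.AtPrime Q))) := by
  refine Groth.Agent.Fano.K254.HartCI.isRegular_of_height _ ?_ ?_
  · intro r hr
    obtain ⟨s, hs, rfl⟩ := List.mem_map.1 hr
    obtain ⟨i, rfl⟩ := (List.mem_ofFn' _ _).1 hs
    rw [← Localization.AtPrime.map_eq_maximalIdeal]
    exact Ideal.mem_map_of_mem _ (hf i)
  · rw [List.length_map, List.length_ofFn, Ideal.height_eq_inf_minimalPrimes]
    refine le_iInf₂ fun P hP => ?_
    have hPp : P.IsPrime := hP.1.1
    have h1 : ∀ i, f i ∈ P.comap (algebraMap (MvPolynomial σ κ) (Localization.AtPrime Q)) := by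
      intro i
      refine hP.1.2 (Ideal.subset_span ?_)
      exact List.mem_map.2 ⟨f i, (List.mem_ofFn' _ _).2 ⟨i, rfl⟩, rfl⟩
    have h2 : P.comap (algebraMap (MvPolynomial σ κ) (Localization.AtPrime Q)) ≤ Q := by
      intro a ha
      by_contra hna
      exact hPp.ne_top (Ideal.eq_top_of_isUnit_mem _ ha (IsLocalization.map_units _ (⟨a, hna⟩ : Q.primeCompl)))
    have h3 := h _ (Ideal.comap_isPrime _ P) h2 h1
    rwa [IsLocalization.height_under Q.primeCompl] at h3

open scoped IntermediateField.algebraAdjoinAdjoin in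
/-- The height of the ideal of a point, from a bound for the transcendence degree. -/
theorem le_height_of_trLE {m c : ℕ} (Q' : Ideal (MvPolynomial σ κ)) [Q'.IsPrime] (hm : m + c ≤ Nat.card σ)
    {K : Type u} [Field K] [Algebra κ K] (g : MvPolynomial σ κ ⧸ Q' →ₐ[κ] K) (hg0 : Function.Injective g)
    (h : TrLE κ m (Set.range fun s : σ => g (Ideal.Quotient.mk Q' (X s)))) : (c : ℕ∞) ≤ Q'.height := by
  obtain ⟨d, e, -, hd, he, hde⟩ := K714.DimMv.exists_nat_dim Q'
  have h1 := h.trdeg_le
  set S : Set K := Set.range fun s : σ => g (Ideal.Quotient.mk Q' (X s))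
  have hg : ∀ x, g x ∈ IntermediateField.adjoin κ S := by
    intro x
    obtain ⟨x, rfl⟩ := Ideal.Quotient.mk_surjective x
    induction x using MvPolynomial.induction_on with
    | C a =>
      have h2 : g (Ideal.Quotient.mk Q' (C a)) = algebraMap κ K a := g.commutes a
      rw [h2]
      exact algebraMap_mem _ a
    | add x y hx hy => rw [map_add, map_add]; exact add_mem hx hy
    | mul_X x i hx =>
      rw [map_mul, map_mul]
      exact mul_mem hx (IntermediateField.subset_adjoin κ _ ⟨i, rfl⟩)
  let g' : MvPolynomial σ κ ⧸ Q' →ₐ[κ] IntermediateField.adjoin κ S := AlgHom.codRestrict g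
    (IntermediateField.adjoin κ S).toSubalgebra hg
  have hginj : Function.Injective g' := by
    intro x y hxy
    exact hg0 (congrArg Subtype.val hxy)
  have h2 : Algebra.trdeg κ (MvPolynomial σ κ ⧸ Q') ≤ Algebra.trdeg κ (IntermediateField.adjoin κ S) :=
    trdeg_le_of_injective g' hginj
  rw [hd] at h2
  have h3 : d ≤ m := by exact_mod_cast h2.trans h1
  rw [he]
  exact_mod_cast (by omega : c ≤ e)

end Reg

section Flat

variable {A : Type u} [CommRing A] {σ : Type} [Finite σ] {c m : ℕ}

/-- **Flatness of a family of complete intersections.** -/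
theorem flat_of_trdeg (P : Fin c → MvPolynomial σ A) (hm : m + c ≤ Nat.card σ) (q : Ideal (MvPolynomial σ A)) [q.IsPrime]
    (hP : ∀ i, P i ∈ q)
    (h : ∀ (κ K : Type u) [Field κ] [Field K] [Algebra κ K] [IsAlgClosed K] (ψ : A →+* κ) (x : σ → K),
      (∀ a, ψ a = 0 → C a ∈ q) → (∀ i, MvPolynomial.eval₂ ((algebraMap κ K).comp ψ) x (P i) = 0) →
      (∀ a, MvPolynomial.eval₂ ((algebraMap κ K).comp ψ) x a = 0 → a ∈ q) → TrLE κ m (Set.range x)) :
    Module.Flat A (LocalizedModule q.primeCompl
      (MvPolynomial σ A ⧸ (Ideal.span (Set.range P) • ⊤ : Submodule (MvPolynomial σ A) (MvPolynomial σ A)))) := by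
  let p : Ideal A := q.comap (algebraMap A (MvPolynomial σ A))
  let κ := p.ResidueField
  -- the prime of the fibre
  let φ : κ →+* q.ResidueField := Ideal.ResidueField.map p q (algebraMap A (MvPolynomial σ A)) rfl
  let ev : MvPolynomial σ κ →+* q.ResidueField :=
    MvPolynomial.eval₂Hom φ (fun s => algebraMap (MvPolynomial σ A) q.ResidueField (X s))
  let Q : Ideal (MvPolynomial σ κ) := RingHom.ker ev
  have hQp : Q.IsPrime := RingHom.ker_isPrime ev
  have hev : ev.comp (algebraMap (MvPolynomial σ A) (MvPolynomial σ κ)) = algebraMap (MvPolynomial σ A) q.ResidueField := by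
    apply MvPolynomial.ringHom_ext
    · intro a
      have h1 : algebraMap (MvPolynomial σ A) (MvPolynomial σ κ) (C a) = C (algebraMap A κ a) := map_C _ _
      rw [RingHom.comp_apply, h1]
      refine (MvPolynomial.eval₂_C _ _ _).trans ?_
      exact Ideal.ResidueField.map_algebraMap p q _ rfl a
    · intro s
      have h1 : algebraMap (MvPolynomial σ A) (MvPolynomial σ κ) (X s) = X s := map_X _ _
      rw [RingHom.comp_apply, h1]
      exact MvPolynomial.eval₂_X _ _ _
  have hQ : Q.comap (algebraMap (MvPolynomial σ A) (MvPolynomial σ κ)) = q := by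
    ext a
    change ev (algebraMap (MvPolynomial σ A) (MvPolynomial σ κ) a) = 0 ↔ _
    have h1 : ev (algebraMap (MvPolynomial σ A) (MvPolynomial σ κ) a) = algebraMap (MvPolynomial σ A) q.ResidueField a :=
      congr($hev a)
    rw [h1, Ideal.algebraMap_residueField_eq_zero]
  -- the equations on the fibre form a regular sequence
  have hreg := isRegular (fun i => algebraMap (MvPolynomial σ A) (MvPolynomial σ κ) (P i)) Q (fun i => by
    change P i ∈ Q.comap (algebraMap (MvPolynomial σ A) (MvPolynomial σ κ))
    rw [hQ]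
    exact hP i) (by
    intro Q' hQ' hle hPQ'
    let K := AlgebraicClosure (FractionRing (MvPolynomial σ κ ⧸ Q'))
    let g : MvPolynomial σ κ ⧸ Q' →ₐ[κ] K := (IsScalarTower.toAlgHom κ (FractionRing (MvPolynomial σ κ ⧸ Q')) K).comp
      (IsScalarTower.toAlgHom κ _ (FractionRing (MvPolynomial σ κ ⧸ Q')))
    have hg0 : Function.Injective g := by
      refine Function.Injective.comp (g := IsScalarTower.toAlgHom κ (FractionRing (MvPolynomial σ κ ⧸ Q')) K) ?_ ?_
      · exact (algebraMap (FractionRing (MvPolynomial σ κ ⧸ Q')) K).injective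
      · exact IsFractionRing.injective (MvPolynomial σ κ ⧸ Q') (FractionRing (MvPolynomial σ κ ⧸ Q'))
    refine le_height_of_trLE Q' hm g hg0 ?_
    have hev' : MvPolynomial.eval₂Hom ((algebraMap κ K).comp (algebraMap A κ))
        (fun s : σ => g (Ideal.Quotient.mk Q' (X s))) =
        (g.toRingHom.comp (Ideal.Quotient.mk Q')).comp (algebraMap (MvPolynomial σ A) (MvPolynomial σ κ)) := by
      apply MvPolynomial.ringHom_ext
      · intro a
        rw [MvPolynomial.eval₂Hom_C]
        have h1 : algebraMap (MvPolynomial σ A) (MvPolynomial σ κ) (C a) = C (algebraMap A κ a) := map_C _ _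
        rw [RingHom.comp_apply _ (algebraMap (MvPolynomial σ A) (MvPolynomial σ κ)), h1]
        exact (g.commutes (algebraMap A κ a)).symm
      · intro s
        rw [MvPolynomial.eval₂Hom_X']
        have h1 : algebraMap (MvPolynomial σ A) (MvPolynomial σ κ) (X s) = X s := map_X _ _
        rw [RingHom.comp_apply _ (algebraMap (MvPolynomial σ A) (MvPolynomial σ κ)), h1]
        rfl
    have hval : ∀ a, MvPolynomial.eval₂ ((algebraMap κ K).comp (algebraMap A κ))
        (fun s : σ => g (Ideal.Quotient.mk Q' (X s))) a = 0 ↔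
          algebraMap (MvPolynomial σ A) (MvPolynomial σ κ) a ∈ Q' := by
      intro a
      have h1 := congr($hev' a)
      change MvPolynomial.eval₂ _ _ a = g (Ideal.Quotient.mk Q'
        (algebraMap (MvPolynomial σ A) (MvPolynomial σ κ) a)) at h1
      rw [h1, map_eq_zero_iff _ hg0, Ideal.Quotient.eq_zero_iff_mem]
    refine h κ K (algebraMap A κ) _ ?_ ?_ ?_
    · intro a ha
      have h1 : a ∈ p := by rwa [← Ideal.algebraMap_residueField_eq_zero]
      exact h1
    · intro i
      exact (hval _).2 (hPQ' i)
    · intro a ha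
      rw [← hQ]
      exact hle ((hval _).1 ha))
  have hloc := isLocalizedModule p q Q rfl hQ
  -- transfer to the tensor product
  have hweak : IsWeaklyRegular (LocalizedModule q.primeCompl
      (MvPolynomial σ A ⊗[A] (q.comap (algebraMap A (MvPolynomial σ A))).ResidueField)) (List.ofFn P) := by
    have h1 := hreg.toIsWeaklyRegular
    have h2 : (List.ofFn fun i => algebraMap (MvPolynomial σ A) (MvPolynomial σ κ) (P i)).map
        (algebraMap _ (Localization.AtPrime Q)) = (List.ofFn P).map (algebraMap _ (Localization.AtPrime Q)) := by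
      rw [List.map_ofFn, List.map_ofFn]
      rfl
    rw [h2, isWeaklyRegular_map_algebraMap_iff] at h1
    let e0 : MvPolynomial σ A ⊗[A] κ ≃ₐ[MvPolynomial σ A] MvPolynomial σ κ :=
      Algebra.IsPushout.equiv A (MvPolynomial σ A) κ (MvPolynomial σ κ)
    let e1 : LocalizedModule q.primeCompl (MvPolynomial σ A ⊗[A] κ) ≃ₗ[MvPolynomial σ A] Localization.AtPrime Q :=
      (IsLocalizedModule.iso q.primeCompl (((Algebra.linearMap (MvPolynomial σ κ)
        (Localization.AtPrime Q)).restrictScalars (MvPolynomial σ A)).comp e0.toLinearEquiv.toLinearMap))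
    exact (e1.isWeaklyRegular_congr _).2 h1
  obtain ⟨g, hg, hg'⟩ := Groth.Agent.Ega4dB.FlatPolyFib.exists_notMem_isWeaklyRegular (A := A)
    (M := MvPolynomial σ A) q (List.ofFn P) (by
      intro f hf
      obtain ⟨i, rfl⟩ := (List.mem_ofFn' _ _).1 hf
      exact hP i) (by
      have h1 : Module.Flat (MvPolynomial σ A) (Localization.AtPrime q) := inferInstance
      have h2 : Module.Flat A (Localization.AtPrime q) := Module.Flat.trans A (MvPolynomial σ A) _
      exact Module.Flat.of_linearEquiv ((IsLocalizedModule.iso q.primeCompl (Algebra.linearMap (MvPolynomial σ A)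
        (Localization.AtPrime q))).restrictScalars A)) hweak
  have h3 := (hg' q hg).2 c
  have h4 : Ideal.ofList ((List.ofFn P).take c) = Ideal.span (Set.range P) := by
    rw [List.take_of_length_le (by rw [List.length_ofFn]), Ideal.ofList]
    congr 1
    ext x
    exact List.mem_ofFn' _ _
  rwa [h4] at h3

end Flat

end K519.FlatSlice
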