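import Groth.Agent.Fano.K519.LinTree
import Groth.Agent.Fano.K519.FlatSlice
import Groth.Agent.Lift.K695.FlatProper

/-!
# Flatness of the space of maps over the chart of curves

`flat`: let `ℓ : LinChart c G e` and `A : Univ ℓ` (the space of maps `V`, an open subscheme of the spectrum of `RV`).  If the
schemes of arcs on the cone `G = 0` have the expected dimension, then `V` is flat over the base `U` of the chart.
-/

set_option autoImplicit false
universe u

open CategoryTheory AlgebraicGeometry Limits TopologicalSpace Opposite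

namespace K519.FlatUniv

open Groth.Agent Groth.Agent.Fdesc.LocGen K390.PnSec K745.ConDef K475.RatClass K188.LineDef K505.KonDef
open K519.SecVal K519.TrBound K519.TreeGeo K519.LinTree

variable {k : Type u} [Field k] {r m n d e δ : ℕ} {c : CrvChart k (r + m)} {G : LefPen.Form n k d}

theorem gens_pull {ℓ : LinChart c G e} {A : Fam G r} (D : Datum ℓ A) {T C' : Scheme.{u}} {w : T ⟶ A.base.left}
    {p : C' ⟶ A.C} {f' : C' ⟶ T} (hP : IsPullback p f' A.f w) :
    Gens (lc f' (fun j => pullTop (p ≫ D.h.top) (ℓ.ε j)) (fun l j => w.appTop (D.φ l j))) := by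
  have hL : PicF.IsInvertible ((Scheme.Modules.pullback D.h.top).obj ℓ.L) := isInvertible_pullback _ ℓ.inv
  have h1 : Gens (lc A.f (fun j => pullTop D.h.top (ℓ.ε j)) D.φ) := D.givenBy.iSup_genLocus
  have h2 : Gens (fun l => pullTop p (lc A.f (fun j => pullTop D.h.top (ℓ.ε j)) D.φ l)) := by
    unfold Gens at h1 ⊢
    have h3 : ∀ l, CohB1.genLocus _ (homOf (pullTop p (lc A.f (fun j => pullTop D.h.top (ℓ.ε j)) D.φ l))) =
        p ⁻¹ᵁ (CohB1.genLocus _ (homOf (lc A.f (fun j => pullTop D.h.top (ℓ.ε j)) D.φ l))) :=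
      fun l => genLocus_pullTop p hL _
    rw [iSup_congr h3, ← Scheme.Hom.preimage_iSup, h1]
    rfl
  refine gens_of_iso ((Scheme.Modules.pullbackComp p D.h.top).symm.app ℓ.L) (fun l => ?_) h2
  refine (app_sum_smul _ _ _).trans ?_
  unfold lc
  refine Eq.trans ?_ (pullTop_sum_smul p _ _).symm
  refine Finset.sum_congr rfl fun j _ => ?_
  congr 1
  · have h4 : f'.appTop (w.appTop (D.φ l j)) = (f' ≫ w).appTop (D.φ l j) := by
      rw [Scheme.Hom.comp_appTop]; rfl
    have h5 : p.appTop (A.f.appTop (D.φ l j)) = (p ≫ A.f).appTop (D.φ l j) := by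
      rw [Scheme.Hom.comp_appTop]; rfl
    rw [h4, h5, hP.w]
  · exact pullSec_comp p D.h.top (ℓ.ε j)

/-- A field valued point of the spectrum of `RV` which generizes a point of an open subscheme lifts to it. -/
theorem exists_lift {V X : Scheme.{u}} (j : V ⟶ X) [IsOpenImmersion j] {K : Type u} [Field K]
    (w : Spec (CommRingCat.of K) ⟶ X) (v : V) (h : w (IsLocalRing.closedPoint K) ⤳ j v) :
    ∃ w' : Spec (CommRingCat.of K) ⟶ V, w' ≫ j = w := by
  refine ⟨IsOpenImmersion.lift j w ?_, IsOpenImmersion.lift_fac _ _ _⟩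
  rintro _ ⟨y, rfl⟩
  have hy : y = IsLocalRing.closedPoint K := Subsingleton.elim _ _
  rw [hy]
  exact h.mem_open j.opensRange.2 ⟨v, rfl⟩

theorem flat_localization {A : Type u} [CommRing A] {σ : Type} {c : ℕ} (P : Fin c → MvPolynomial σ A)
    (q' : Ideal (MvPolynomial σ A ⧸ Ideal.span (Set.range P))) [q'.IsPrime]
    (h : Module.Flat A (LocalizedModule (q'.comap (Ideal.Quotient.mk (Ideal.span (Set.range P)))).primeCompl
      (MvPolynomial σ A ⧸ (Ideal.span (Set.range P) • ⊤ : Submodule (MvPolynomial σ A) (MvPolynomial σ A))))) :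
    Module.Flat A (Localization.AtPrime q') := by
  let q := q'.comap (Ideal.Quotient.mk (Ideal.span (Set.range P)))
  have hS : Algebra.algebraMapSubmonoid (MvPolynomial σ A ⧸ Ideal.span (Set.range P)) q.primeCompl = q'.primeCompl := by
    ext x
    constructor
    · rintro ⟨y, hy, rfl⟩
      exact hy
    · intro hx
      obtain ⟨y, rfl⟩ := Ideal.Quotient.mk_surjective x
      exact ⟨y, hx, rfl⟩
  have h1 : IsLocalization (Algebra.algebraMapSubmonoid (MvPolynomial σ A ⧸ Ideal.span (Set.range P)) q.primeCompl)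
      (Localization.AtPrime q') := by
    rw [hS]
    infer_instance
  have h2 : IsLocalizedModule q.primeCompl (IsScalarTower.toAlgHom (MvPolynomial σ A)
      (MvPolynomial σ A ⧸ Ideal.span (Set.range P)) (Localization.AtPrime q')).toLinearMap :=
    isLocalizedModule_iff_isLocalization.mpr h1
  let e0 : (MvPolynomial σ A ⧸ (Ideal.span (Set.range P) • ⊤ : Submodule (MvPolynomial σ A) (MvPolynomial σ A))) ≃ₗ[MvPolynomial σ A]
      (MvPolynomial σ A ⧸ Ideal.span (Set.range P)) := Submodule.quotEquivOfEq _ _ (by simp)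
  let e1 : LocalizedModule q.primeCompl
      (MvPolynomial σ A ⧸ (Ideal.span (Set.range P) • ⊤ : Submodule (MvPolynomial σ A) (MvPolynomial σ A))) ≃ₗ[MvPolynomial σ A]
      Localization.AtPrime q' :=
    IsLocalizedModule.iso q.primeCompl ((IsScalarTower.toAlgHom (MvPolynomial σ A)
      (MvPolynomial σ A ⧸ Ideal.span (Set.range P)) (Localization.AtPrime q')).toLinearMap.comp e0.toLinearMap)
  exact Module.Flat.of_linearEquiv (e1.restrictScalars A).symm

/-- **Flatness of the space of maps over the chart of curves.** -/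
theorem flat {ℓ : LinChart c G e} (Un : Univ ℓ) (hG : G.1 ≠ 0) (hb : ArcBound G.1 δ) (hδ : δ + d = n + 1) :
    Flat Un.D.h.base.left := by
  have hUaff := c.isAffine
  have hj := Un.isOpenImmersion
  rw [Un.base]
  change Flat (Un.j ≫ Spec.map (CommRingCat.ofHom (algebraMap c.R ℓ.RV)) ≫ (c.U.left.isoSpec).inv)
  rw [← Category.assoc]
  have h0 : Flat (Un.j ≫ Spec.map (CommRingCat.ofHom (algebraMap c.R ℓ.RV))) := by
    refine Flat.of_stalkMap _ fun v => ?_
    rw [K695.FlatProper.flat_stalkMap_comp_iff, K695.FlatProper.flat_stalkMap_Spec_iff]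
    set q' : Ideal ℓ.RV := (Un.j v).asIdeal with hq'
    let I : Ideal (MvPolynomial (Fin (n + 1) × Fin (e + 1)) c.R) := Ideal.span (Set.range ℓ.P)
    let q : Ideal (MvPolynomial (Fin (n + 1) × Fin (e + 1)) c.R) := q'.comap (Ideal.Quotient.mk I)
    have hPq : ∀ i, ℓ.P i ∈ q := by
      intro i
      change Ideal.Quotient.mk I (ℓ.P i) ∈ q'
      have h1 : Ideal.Quotient.mk I (ℓ.P i) = 0 := Ideal.Quotient.eq_zero_iff_mem.2 (Ideal.subset_span ⟨i, rfl⟩)
      rw [h1]
      exact zero_mem _
    have key := FlatSlice.flat_of_trdeg (m := n + e * δ) ℓ.P (by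
      rw [Nat.card_prod, Nat.card_eq_fintype_card, Nat.card_eq_fintype_card, Fintype.card_fin, Fintype.card_fin, ← hδ]
      nlinarith) q hPq (by
      intro κ K _ _ _ _ ψ x hψ hx hq
      let w0 : ℓ.RV →+* K := Ideal.Quotient.lift I (MvPolynomial.eval₂Hom ((algebraMap κ K).comp ψ) x) (by
        intro a ha
        have h1 : I ≤ RingHom.ker (MvPolynomial.eval₂Hom ((algebraMap κ K).comp ψ) x) := by
          rw [Ideal.span_le]
          rintro _ ⟨i, rfl⟩
          exact hx i
        exact h1 ha)
      let w : Spec (CommRingCat.of K) ⟶ Spec (CommRingCat.of ℓ.RV) := Spec.map (CommRingCat.ofHom w0)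
      obtain ⟨w', hw'⟩ := exists_lift Un.j w v (by
        refine (PrimeSpectrum.le_iff_specializes (w (IsLocalRing.closedPoint K)) (Un.j v)).1 ?_
        intro a ha
        obtain ⟨a, rfl⟩ := Ideal.Quotient.mk_surjective a
        refine hq a ?_
        have h1 : w0 (Ideal.Quotient.mk I a) ∈ (IsLocalRing.closedPoint K).asIdeal := ha
        have h2 : w0 (Ideal.Quotient.mk I a) = 0 := by
          have h3 : (IsLocalRing.closedPoint K).asIdeal = ⊥ := IsLocalRing.maximalIdeal_eq_bot
          rw [h3] at h1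
          exact h1
        exact h2)
      let u : Spec (CommRingCat.of κ) ⟶ c.U.left := Spec.map (CommRingCat.ofHom ψ) ≫ (c.U.left.isoSpec).inv
      have hu : w' ≫ Un.D.h.base.left = qB κ K ≫ u := by
        rw [Un.base]
        change w' ≫ Un.j ≫ Spec.map (CommRingCat.ofHom (algebraMap c.R ℓ.RV)) ≫ (c.U.left.isoSpec).inv =
          Spec.map (CommRingCat.ofHom (algebraMap κ K)) ≫ Spec.map (CommRingCat.ofHom ψ) ≫ (c.U.left.isoSpec).inv
        rw [← Category.assoc, hw', ← Category.assoc, ← Category.assoc, ← Spec.map_comp, ← Spec.map_comp]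
        congr 2
        ext a
        change w0 (algebraMap c.R ℓ.RV a) = algebraMap κ K (ψ a)
        exact MvPolynomial.eval₂Hom_C _ _ _
      have hC := (IsPullback.of_hasPullback Un.A.obj.f w')
      have hC' : IsPullback (pullback.fst Un.A.obj.f w' ≫ Un.D.h.top) (pullback.snd Un.A.obj.f w') c.f (qB κ K ≫ u) := by
        rw [← hu]
        exact hC.paste_horiz Un.D.h.cart
      have hφ : ∀ l i, w'.appTop (Un.D.φ l i) = γ K (x (l, i)) := by
        intro l i
        rw [Un.φ]
        have h1 : w'.appTop (ℓ.φAt Un.j l i) = ℓ.φAt (w' ≫ Un.j) l i := by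
          unfold LinChart.φAt
          rw [Scheme.Hom.comp_appTop]
          rfl
        rw [h1, hw']
        have h2 := Scheme.ΓSpecIso_inv_naturality (CommRingCat.ofHom w0)
        have h3 := (congr($(h2).hom (Ideal.Quotient.mk I (MvPolynomial.X (l, i))))).symm
        have h4 : w0 (Ideal.Quotient.mk I (MvPolynomial.X (l, i))) = x (l, i) := MvPolynomial.eval₂Hom_X' _ _ _
        exact h3.trans (congrArg (γ K) h4)
      have hg := gens_pull Un.D hC
      have hφ' : (fun l i => w'.appTop (Un.D.φ l i)) = fun l i => γ K (x (l, i)) := by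
        funext l i
        exact hφ l i
      rw [hφ'] at hg
      have h1 := trLE ℓ hG hb u hC' (fun l i => x (l, i)) hg ((ℓ.P_iff _ _ _ hC' _).2 (by
        intro i
        have h2 : (qB κ K ≫ u).appTop.hom = (γ K).comp ((algebraMap κ K).comp ψ) := by
          ext a
          rw [RingHom.comp_apply]
          have h4 : (c.U.left.isoSpec).inv.appTop a = (Scheme.ΓSpecIso Γ(c.U.left, ⊤)).inv a := by
            have h8 : (c.U.left.isoSpec).inv.appTop ≫ (c.U.left.isoSpec).hom.appTop = 𝟙 _ := by
              rw [← Scheme.Hom.comp_appTop, Iso.hom_inv_id, Scheme.Hom.id_appTop]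
            have h9 : (c.U.left.isoSpec).hom.appTop = (Scheme.ΓSpecIso Γ(c.U.left, ⊤)).hom :=
              Scheme.toSpecΓ_appTop _
            rw [h9, ← Iso.eq_comp_inv, Category.id_comp] at h8
            rw [h8]
          have h5 : (qB κ K ≫ u).appTop a = (qB κ K).appTop ((Spec.map (CommRingCat.ofHom ψ)).appTop
              ((c.U.left.isoSpec).inv.appTop a)) := by
            rw [Scheme.Hom.comp_appTop, Scheme.Hom.comp_appTop]
            rfl
          refine h5.trans ?_
          rw [h4]
          have h6 := Scheme.ΓSpecIso_inv_naturality (CommRingCat.ofHom ψ)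
          have h7 : (Spec.map (CommRingCat.ofHom ψ)).appTop ((Scheme.ΓSpecIso Γ(c.U.left, ⊤)).inv a) = γ κ (ψ a) :=
            (congr($(h6).hom a)).symm
          rw [h7]
          exact qB_appTop _
        rw [h2]
        have h3 := MvPolynomial.eval₂_comp_left (γ K) ((algebraMap κ K).comp ψ) x (ℓ.P i)
        rw [hx i, map_zero] at h3
        exact h3.symm))
      refine h1.mono le_rfl ?_
      rintro _ ⟨⟨l, i⟩, rfl⟩
      exact ⟨l, i, rfl⟩)
    have key' : RingHom.Flat (R := c.R) (S := Localization.AtPrime q')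
        ((algebraMap ℓ.RV (Localization.AtPrime q')).comp (algebraMap c.R ℓ.RV)) := by
      have h8 : (algebraMap ℓ.RV (Localization.AtPrime q')).comp (algebraMap c.R ℓ.RV) =
          algebraMap c.R (Localization.AtPrime q') := (IsScalarTower.algebraMap_eq _ _ _).symm
      rw [h8, RingHom.flat_algebraMap_iff]
      exact flat_localization ℓ.P q' key
    let _ : Algebra (CommRingCat.of c.R) (CommRingCat.of ℓ.RV) := (CommRingCat.ofHom (algebraMap c.R ℓ.RV)).hom.toAlgebra
    have h9 : RingHom.Flat (R := CommRingCat.of c.R) (S := Localization.AtPrime (Un.j v).asIdeal)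
        (algebraMap (CommRingCat.of c.R) (Localization.AtPrime (Un.j v).asIdeal)) := key'
    exact (RingHom.flat_algebraMap_iff (R := CommRingCat.of c.R) (S := Localization.AtPrime (Un.j v).asIdeal)).mp h9
  exact MorphismProperty.comp_mem _ _ _ h0 inferInstance

end K519.FlatUniv
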