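import Groth.Agent.Fano.K519.TrBound
import Groth.Agent.Fano.K479.ArcRing

/-!
# The bound for curves through a point, from the dimension of the scheme of arcs
-/

set_option autoImplicit false
universe u

open Polynomial

namespace K519.H2Arc

open K519.TrBound K479.ArcRing

/-- The dimension of the schemes of arcs bounds the transcendence degree of the curves through a point. -/
theorem h2_of_arc {k Ω : Type u} [Field k] [Field Ω] [Algebra k Ω] {n δ : ℕ} {G : MvPolynomial (Fin (n + 1)) k}
    (h : ∀ (K : Type u) [Field K] (φ : k →+* K) (a : Fin (n + 1) → K), a ≠ 0 → ∀ e : ℕ,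
      ringKrullDim (MvPolynomial (Fin e × Fin (n + 1)) K ⧸ arcIdeal φ G a e) ≤ ((e * δ : ℕ) : WithBot ℕ∞)) :
    H2 (G.map (algebraMap k Ω)) δ := by
  intro e F K _ _ _ _ _ _ a c ha hc hG
  let φ : k →+* F := (algebraMap Ω F).comp (algebraMap k Ω)
  let x : Fin e × Fin (n + 1) → K := fun p => c p.2 (p.1 + 1)
  let ev : MvPolynomial (Fin e × Fin (n + 1)) F →ₐ[F] K := MvPolynomial.aeval x
  have h1 : (arcPoly φ G a e).map ev.toRingHom = MvPolynomial.aeval (fun l => cp e (c l)) (G.map (algebraMap k Ω)) := by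
    rw [MvPolynomial.aeval_def, MvPolynomial.eval₂_map]
    have h2 : (arcPoly φ G a e).map ev.toRingHom = Polynomial.mapRingHom ev.toRingHom (arcPoly φ G a e) := rfl
    rw [h2, arcPoly, MvPolynomial.eval₂_comp_left]
    congr 1
    · ext b
      simp only [RingHom.comp_apply, coe_mapRingHom, map_C, φ, AlgHom.toRingHom_eq_coe, RingHom.coe_coe, ev,
        MvPolynomial.aeval_C]
      rw [IsScalarTower.algebraMap_apply Ω K K[X], ← IsScalarTower.algebraMap_apply Ω F K, Polynomial.algebraMap_eq]
    · funext l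
      rw [Function.comp_apply, cp, Finset.sum_range_succ', map_add, coe_mapRingHom, map_C, add_comm]
      congr 1
      · rw [Polynomial.map_sum, ← Fin.sum_univ_eq_sum_range (fun i => monomial (i + 1) (c l (i + 1)))]
        refine Finset.sum_congr rfl fun j _ => ?_
        rw [Polynomial.map_mul, map_C, Polynomial.map_pow, map_X, C_mul_X_pow_eq_monomial]
        congr 1
        exact MvPolynomial.aeval_X _ _
      · rw [monomial_zero_left, hc l]
        congr 1
        exact MvPolynomial.aeval_C _ _
  rw [hG] at h1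
  let f : (MvPolynomial (Fin e × Fin (n + 1)) F ⧸ arcIdeal φ G a e) →ₐ[F] K :=
    Ideal.Quotient.liftₐ _ ev (by
      intro b hb
      have h2 : arcIdeal φ G a e ≤ RingHom.ker ev.toRingHom := by
        rw [arcIdeal, Ideal.span_le]
        rintro _ ⟨m, rfl⟩
        change ev ((arcPoly φ G a e).coeff m) = 0
        have h3 := congrArg (fun p => p.coeff m) h1
        simp only [coeff_map, coeff_zero] at h3
        exact h3
      exact h2 hb)
  refine (trLE_of_dim (h F φ a ha e) f).mono le_rfl ?_
  rintro _ ⟨l, j, hj, rfl⟩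
  rcases Nat.eq_zero_or_pos j with rfl | hj0
  · refine ⟨algebraMap F _ (a l), ?_⟩
    rw [hc l]
    exact AlgHom.commutes f (a l)
  · refine ⟨Ideal.Quotient.mk _ (MvPolynomial.X (⟨j - 1, by omega⟩, l)), ?_⟩
    have h2 : f (Ideal.Quotient.mk _ (MvPolynomial.X (⟨j - 1, by omega⟩, l))) = ev (MvPolynomial.X (⟨j - 1, by omega⟩, l)) := rfl
    rw [h2]
    have h3 : ev (MvPolynomial.X (⟨j - 1, by omega⟩, l)) = x (⟨j - 1, by omega⟩, l) := MvPolynomial.aeval_X _ _
    rw [h3]
    change c l (j - 1 + 1) = c l j
    congr 1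
    omega

end K519.H2Arc
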