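import Groth.Agent.Fano.K519.TreeGeo
import Groth.Agent.Fano.K519.H2Arc
import Groth.Agent.Fano.K505.KonDef

/-!
# The tree bound for linear charts

`trLE`: let `ℓ : LinChart c G e`; the transcendence degree over `κ` of a matrix `φ` over `K` of sections of the fibre of `ℓ` over a
point with values in `κ` which generate and at which `G` vanishes is at most `n + e δ`.
-/

set_option autoImplicit false
universe u

open CategoryTheory AlgebraicGeometry Limits TopologicalSpace Opposite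

namespace K519.LinTree

open Groth.Agent Groth.Agent.Fdesc.LocGen K390.PnSec K745.ConDef K475.RatClass K188.LineDef K505.KonDef
open K519.SecVal K519.TrBound K519.TreeGeo K519.H2Arc Groth.Agent.CurvesC K479.ArcRing

/-- The schemes of arcs of length `e` on the cone `G = 0` starting at a nonzero point have dimension at most `e δ`. -/
def ArcBound {k : Type u} [Field k] {n : ℕ} (G : MvPolynomial (Fin (n + 1)) k) (δ : ℕ) : Prop :=
  ∀ (K : Type u) [Field K] (φ : k →+* K) (a : Fin (n + 1) → K), a ≠ 0 → ∀ e : ℕ,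
    ringKrullDim (MvPolynomial (Fin e × Fin (n + 1)) K ⧸ arcIdeal φ G a e) ≤ ((e * δ : ℕ) : WithBot ℕ∞)

theorem trLE_of_algebraicClosure {κ K : Type u} [Field κ] [Field K] [Algebra κ K] {m : ℕ} {S : Set K}
    (h : TrLE (algebraicClosure κ K) m S) : TrLE κ m S := by
  have h0 : TrLE κ 0 ((algebraicClosure κ K : IntermediateField κ K) : Set K) := by
    refine ⟨∅, by simp, fun s hs => ?_⟩
    obtain ⟨p, hp, hps⟩ := mem_algebraicClosure_iff.mp hs
    refine ⟨p.map (algebraMap κ _), (Polynomial.map_ne_zero_iff (algebraMap κ _).injective).mpr hp, ?_⟩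
    rw [Polynomial.aeval_map_algebraMap]
    exact hps
  have h1 : IntermediateField.adjoin κ ((algebraicClosure κ K : IntermediateField κ K) : Set K) = algebraicClosure κ K :=
    IntermediateField.adjoin_self κ _
  have h2 : TrLE (IntermediateField.adjoin κ ((algebraicClosure κ K : IntermediateField κ K) : Set K)) m S := by
    rw [h1]
    exact h
  exact (h0.comp h2).mono (by omega) Set.subset_union_right

theorem kmap_Spec {k K : Type u} [Field k] [Field K] (ψ : CommRingCat.of k ⟶ CommRingCat.of K) :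
    kmap (Spec.map ψ) = (γ K).comp ψ.hom := by
  have h1 := Scheme.ΓSpecIso_inv_naturality ψ
  ext a
  exact (congr($(h1).hom a)).symm

theorem gens_of_iso {X : Scheme.{u}} {M M' : X.Modules} (τ : M ≅ M') {m : ℕ} {s : Fin m → Γ(M, ⊤)} {s' : Fin m → Γ(M', ⊤)}
    (hs : ∀ i, τ.hom.app ⊤ (s i) = s' i) (h : Gens s') : Gens s := by
  unfold Gens at h ⊢
  rw [← h]
  refine iSup_congr fun i => ?_
  rw [← hs, genLocus_app]

/-- **The tree bound for a linear chart.** -/
theorem trLE {k : Type u} [Field k] {r m n d e δ : ℕ} {c : CrvChart k (r + m)} {G : LefPen.Form n k d}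
    (ℓ : LinChart c G e) (hG : G.1 ≠ 0) (hb : ArcBound G.1 δ)
    {κ K : Type u} [Field κ] [Field K] [Algebra κ K] [IsAlgClosed K] (u : Spec (CommRingCat.of κ) ⟶ c.U.left)
    {C' : Scheme.{u}} {i : C' ⟶ c.C} {f' : C' ⟶ Spec (CommRingCat.of K)} (hP : IsPullback i f' c.f (qB κ K ≫ u))
    (φ : Fin (n + 1) → Fin (e + 1) → K)
    (hgen : Gens (lc f' (fun j => pullTop i (ℓ.ε j)) (fun l j => γ K (φ l j))))
    (hvan : Van f' (lc f' (fun j => pullTop i (ℓ.ε j)) (fun l j => γ K (φ l j)))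
      (G.1.map (kmap ((qB κ K ≫ u) ≫ c.U.hom)))) :
    TrLE κ (n + e * δ) {x | ∃ l j, x = φ l j} := by
  have hacl : IsAlgClosed (algebraicClosure κ K) := IsAlgClosure.isAlgClosed κ
  let Ω : Type u := algebraicClosure κ K
  let t : Spec (CommRingCat.of Ω) ⟶ c.U.left := qB κ Ω ≫ u
  let Xt : Scheme.{u} := pullback c.f t
  let iΩ : Xt ⟶ c.C := pullback.fst c.f t
  let qΩ : Xt ⟶ Spec (CommRingCat.of Ω) := pullback.snd c.f t
  have hΩ : IsPullback iΩ qΩ c.f t := IsPullback.of_hasPullback c.f t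
  let _ : Xt.Over (Spec (CommRingCat.of Ω)) := ⟨qΩ⟩
  obtain ⟨hPr, hconn, hdim, ⟨hnod, hg⟩, -, -⟩ := c.isPre.2.2.2 Ω t Xt iΩ qΩ hΩ
  have hPr' : IsProper (Xt ↘ Spec (CommRingCat.of Ω)) := hPr
  have hR : IsReduced Xt := GenusOne512.isReduced_of_atWorstNodal Ω Xt hnod
  have hdeg := ℓ.deg Ω t Xt iΩ qΩ hΩ
  have hL : PicF.IsInvertible ((Scheme.Modules.pullback iΩ).obj ℓ.L) := isInvertible_pullback iΩ ℓ.inv
  have hKt : qB κ K ≫ u = qB Ω K ≫ t := by
    change _ = qB Ω K ≫ qB κ Ω ≫ u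
    rw [← Category.assoc, ← qB_comp κ Ω K]
  obtain ⟨p, rfl, hp2⟩ : ∃ p : C' ⟶ Xt, p ≫ iΩ = i ∧ p ≫ qΩ = f' ≫ qB Ω K :=
    ⟨hΩ.lift i (f' ≫ qB Ω K) (by rw [hP.w, hKt, Category.assoc]), hΩ.lift_fst _ _ _, hΩ.lift_snd _ _ _⟩
  have hpq : IsPullback p f' qΩ (qB Ω K) := by
    rw [hKt] at hP
    exact IsPullback.of_right hP hp2 hΩ
  -- the sections
  let τ := (Scheme.Modules.pullbackComp p iΩ).app ℓ.L
  have hτ : ∀ l, τ.hom.app ⊤ (∑ j, (f'.appTop (γ K (φ l j))) • pullTop p (pullTop iΩ (ℓ.ε j))) =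
      lc f' (fun j => pullTop (p ≫ iΩ) (ℓ.ε j)) (fun l j => γ K (φ l j)) l := by
    intro l
    refine (app_sum_smul τ.hom _ _).trans ?_
    unfold lc
    refine Finset.sum_congr rfl fun j _ => ?_
    congr 1
    exact pullSec_comp' p iΩ (U := ⊤) (ℓ.ε j)
  have hgen' : Gens (fun l => ∑ j, (f'.appTop (γ K (φ l j))) • pullTop p (pullTop iΩ (ℓ.ε j))) :=
    gens_of_iso τ hτ hgen
  -- the form over `Ω`
  let ρ : CommRingCat.of k ⟶ CommRingCat.of Ω := Spec.preimage (t ≫ c.U.hom)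
  have hρ : Spec.map ρ = t ≫ c.U.hom := Spec.map_preimage _
  let _ : Algebra k Ω := ρ.hom.toAlgebra
  have hmap : kmap ((qB κ K ≫ u) ≫ c.U.hom) = ((γ K).comp (algebraMap Ω K)).comp (algebraMap k Ω) := by
    have h1 : (qB κ K ≫ u) ≫ c.U.hom = Spec.map (ρ ≫ CommRingCat.ofHom (algebraMap Ω K)) := by
      rw [Spec.map_comp, hρ, hKt, Category.assoc]
    rw [h1, kmap_Spec]
    rfl
  rw [hmap, ← MvPolynomial.map_map] at hvan
  have hvan' : Van f' (fun l => ∑ j, (f'.appTop (γ K (φ l j))) • pullTop p (pullTop iΩ (ℓ.ε j)))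
      ((G.1.map (algebraMap k Ω)).map ((γ K).comp (algebraMap Ω K))) :=
    (K123.Van.van_iso_iff τ hτ).mpr hvan
  have hH : H2 (G.1.map (algebraMap k Ω)) δ := h2_of_arc hb
  have hG' : G.1.map (algebraMap k Ω) ≠ 0 := by
    intro h0
    exact hG (MvPolynomial.map_injective _ (algebraMap k Ω).injective (h0.trans (map_zero _).symm))
  have hGd : (G.1.map (algebraMap k Ω)).IsHomogeneous d :=
    ((MvPolynomial.mem_homogeneousSubmodule _ _).mp G.2).map _
  refine trLE_of_algebraicClosure ?_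
  exact tree_bound Ω Xt hdim hg hL hdeg (fun j => pullTop iΩ (ℓ.ε j)) (by
    intro a ha
    obtain ⟨b, -, hb⟩ := ℓ.basis iΩ qΩ t hΩ 0
    have h1 := hb (fun j => γ Ω (a j)) ha.symm
    have h2 := hb (fun j => γ Ω ((0 : Fin (e + 1) → Ω) j)) (by
      simp only [Pi.zero_apply, map_zero, zero_smul, Finset.sum_const_zero])
    funext j
    exact γ_injective Ω ((congrFun h1 j).trans (congrFun h2 j).symm)) hpq φ hgen' hG' hGd hvan' hH

end K519.LinTree
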