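import Groth.Agent.Fano.K980.Irred
import Groth.Agent.CurvSt.K896.TailBridge
import Mathlib.AlgebraicGeometry.AlgClosed.Basic

/-!
# Curves of genus zero are covered by an ordered list of projective lines

A proper connected reduced curve `C` of genus `0` over an algebraically closed field is the union of closed subschemes
`ι_0, …, ι_m : P¹ ⟶ C` (its irreducible components) such that each `ι_i`, `i > 0`, meets some `ι_j`, `j < i`, in a rational point;
the degree of an invertible module is the sum of the degrees of its restrictions.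
-/

set_option autoImplicit false
universe u
open CategoryTheory CategoryTheory.Limits AlgebraicGeometry TopologicalSpace Opposite

namespace K519.RatTree

open Groth.Agent.CurvesC.TailGeom Groth.Agent.CurvesB Groth.Agent.CurvesC Groth.Agent
open Groth.Agent.CurvesC.CompGeom Groth.Agent.CurvesC.TailNum
open K900.Comp K900.TopArg

attribute [local instance] subOver

theorem exists_enum_aux {S : Type*} [Fintype S] [Nonempty S] (R : S → S → Prop)
    (h : ∀ A : Set S, A.Nonempty → A ≠ Set.univ → ∃ a ∈ A, ∃ b ∉ A, R b a) (m : ℕ) (hm : m + 1 ≤ Fintype.card S) :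
    ∃ f : Fin (m + 1) → S, Function.Injective f ∧ ∀ i, i ≠ 0 → ∃ j < i, R (f i) (f j) := by
  induction m with
  | zero =>
    refine ⟨fun _ => Classical.arbitrary S, fun i j _ => ?_, fun i hi => ?_⟩
    · omega
    · omega
  | succ m ih =>
    obtain ⟨f, hf, hR⟩ := ih (by omega)
    have hne : Set.range f ≠ Set.univ := by
      intro h0
      have h1 : Function.Surjective f := Set.range_eq_univ.mp h0
      have h2 := Fintype.card_le_of_surjective f h1
      rw [Fintype.card_fin] at h2
      omega
    obtain ⟨_, ⟨j, rfl⟩, b, hb, hRb⟩ := h (Set.range f) ⟨f 0, 0, rfl⟩ hne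
    refine ⟨Fin.snoc f b, ?_, ?_⟩
    · rw [Fin.snoc_injective_iff]
      exact ⟨hf, hb⟩
    · intro i hi
      refine Fin.lastCases ?_ (fun i hi => ?_) i hi
      · intro _
        refine ⟨j.castSucc, Fin.castSucc_lt_last j, ?_⟩
        rw [Fin.snoc_last, Fin.snoc_castSucc]
        exact hRb
      · obtain ⟨j, hj, hRj⟩ := hR i (fun h0 => hi (by rw [h0]; rfl))
        refine ⟨j.castSucc, Fin.castSucc_lt_castSucc_iff.mpr hj, ?_⟩
        rw [Fin.snoc_castSucc, Fin.snoc_castSucc]
        exact hRj

/-- A finite connected relation: the elements can be enumerated such that each one is related to a previous one. -/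
theorem exists_enum {S : Type*} [Fintype S] [Nonempty S] (R : S → S → Prop)
    (h : ∀ A : Set S, A.Nonempty → A ≠ Set.univ → ∃ a ∈ A, ∃ b ∉ A, R b a) :
    ∃ (m : ℕ) (f : Fin (m + 1) ≃ S), ∀ i, i ≠ 0 → ∃ j < i, R (f i) (f j) := by
  obtain ⟨m, hm⟩ : ∃ m, m + 1 = Fintype.card S := ⟨Fintype.card S - 1, by
    have := Fintype.card_pos (α := S)
    omega⟩
  obtain ⟨f, hf, hR⟩ := exists_enum_aux R h m hm.le
  have hb : Function.Bijective f := by
    rw [Fintype.bijective_iff_injective_and_card]
    exact ⟨hf, by rw [Fintype.card_fin]; exact hm⟩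
  exact ⟨m, Equiv.ofBijective f hb, hR⟩

/-- The irreducible components of a connected Noetherian space. -/
theorem exists_inter {X : Type*} [TopologicalSpace X] [NoetherianSpace X] [PreconnectedSpace X]
    (A : Set (irreducibleComponents X)) (hA : A.Nonempty) (hA' : A ≠ Set.univ) :
    ∃ a ∈ A, ∃ b ∉ A, (b.1 ∩ a.1).Nonempty := by
  by_contra hcon
  push Not at hcon
  have hfin : Finite (irreducibleComponents X) := NoetherianSpace.finite_irreducibleComponents
  let U : Set X := ⋃ a ∈ A, a.1
  let V : Set X := ⋃ b ∈ Aᶜ, b.1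
  have hU : IsClosed U := A.toFinite.isClosed_biUnion fun a _ => isClosed_of_mem_irreducibleComponents _ a.2
  have hV : IsClosed V := Aᶜ.toFinite.isClosed_biUnion fun a _ => isClosed_of_mem_irreducibleComponents _ a.2
  have hUV : U ∪ V = Set.univ := by
    rw [Set.eq_univ_iff_forall]
    intro x
    by_cases hx : (⟨_, irreducibleComponent_mem_irreducibleComponents x⟩ : irreducibleComponents X) ∈ A
    · exact Or.inl (Set.mem_biUnion hx mem_irreducibleComponent)
    · exact Or.inr (Set.mem_biUnion (s := Aᶜ) hx mem_irreducibleComponent)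
  have hdis : U ∩ V = ∅ := by
    rw [Set.eq_empty_iff_forall_notMem]
    rintro x ⟨hxU, hxV⟩
    obtain ⟨a, ha, hxa⟩ := Set.mem_iUnion₂.mp hxU
    obtain ⟨b, hb, hxb⟩ := Set.mem_iUnion₂.mp hxV
    have h1 := hcon a ha b hb
    have h2 : x ∈ b.1 ∩ a.1 := ⟨hxb, hxa⟩
    rw [h1] at h2
    exact h2
  have hUo : IsClopen U := by
    refine ⟨hU, ?_⟩
    have h1 : U = Vᶜ := by
      ext x
      constructor
      · intro hx hxV
        have : x ∈ U ∩ V := ⟨hx, hxV⟩
        rw [hdis] at this
        exact this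
      · intro hx
        have h2 : x ∈ U ∪ V := hUV ▸ Set.mem_univ x
        exact h2.resolve_right hx
    rw [h1]
    exact hV.isOpen_compl
  rcases isClopen_iff.mp hUo with h0 | h0
  · obtain ⟨a, ha⟩ := hA
    obtain ⟨x, hx⟩ := a.2.1.nonempty
    have : x ∈ U := Set.mem_biUnion ha hx
    rw [h0] at this
    exact this
  · obtain ⟨b, hb⟩ := (Set.ne_univ_iff_exists_notMem A).mp hA'
    obtain ⟨x, hx⟩ := b.2.1.nonempty
    have h1 : x ∈ U ∩ V := ⟨h0 ▸ Set.mem_univ x, Set.mem_biUnion (s := Aᶜ) hb hx⟩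
    rw [hdis] at h1
    exact h1

section

variable (k : Type u) [Field k] [IsAlgClosed k] (X : Scheme.{u}) [X.Over (Spec (CommRingCat.of k))]
  [IsProper (X ↘ (Spec (CommRingCat.of k)))]

/-- Two closed subschemes with a common point have a common rational point. -/
theorem exists_common {P Q : Scheme.{u}} (ι : P ⟶ X) (ι' : Q ⟶ X) [IsClosedImmersion ι] [IsClosedImmersion ι']
    (h : (Set.range ι ∩ Set.range ι').Nonempty) :
    ∃ (p : Spec (CommRingCat.of k) ⟶ P) (q : Spec (CommRingCat.of k) ⟶ Q),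
      p ≫ ι ≫ (X ↘ Spec (CommRingCat.of k)) = 𝟙 _ ∧ q ≫ ι' ≫ (X ↘ Spec (CommRingCat.of k)) = 𝟙 _ ∧
        p ≫ ι = q ≫ ι' := by
  have hjac : JacobsonSpace X := LocallyOfFiniteType.jacobsonSpace (X ↘ (Spec (CommRingCat.of k)))
  have hcl : IsClosed (Set.range ι ∩ Set.range ι') :=
    ι.isClosedEmbedding.isClosed_range.inter ι'.isClosedEmbedding.isClosed_range
  obtain ⟨x, ⟨⟨y, hy⟩, ⟨z, hz⟩⟩, hx⟩ := nonempty_inter_closedPoints h hcl.isLocallyClosed
  have hx' : IsClosed ({x} : Set X) := hx
  have hyc : IsClosed ({y} : Set P) := by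
    have h1 : ({y} : Set P) = ι ⁻¹' {x} := by
      ext w
      simp only [Set.mem_singleton_iff, Set.mem_preimage]
      constructor
      · rintro rfl
        exact hy
      · intro hw
        exact ι.isClosedEmbedding.injective (hw.trans hy.symm)
    rw [h1]
    exact hx'.preimage ι.continuous
  have hzc : IsClosed ({z} : Set Q) := by
    have h1 : ({z} : Set Q) = ι' ⁻¹' {x} := by
      ext w
      simp only [Set.mem_singleton_iff, Set.mem_preimage]
      constructor
      · rintro rfl
        exact hz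
      · intro hw
        exact ι'.isClosedEmbedding.injective (hw.trans hz.symm)
    rw [h1]
    exact hx'.preimage ι'.continuous
  refine ⟨pointOfClosedPoint (ι ≫ (X ↘ Spec (CommRingCat.of k))) y hyc,
    pointOfClosedPoint (ι' ≫ (X ↘ Spec (CommRingCat.of k))) z hzc, ?_, ?_, ?_⟩
  · exact pointOfClosedPoint_comp _ _ _
  · exact pointOfClosedPoint_comp _ _ _
  · refine ext_of_apply_closedPoint_eq (X ↘ Spec (CommRingCat.of k)) ?_ ?_ ?_
    · rw [Category.assoc]
      exact pointOfClosedPoint_comp _ _ _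
    · rw [Category.assoc]
      exact pointOfClosedPoint_comp _ _ _
    · rw [Scheme.Hom.comp_apply, Scheme.Hom.comp_apply, pointOfClosedPoint_apply, pointOfClosedPoint_apply, hy, hz]

variable [IsReduced X] [ConnectedSpace X]

omit [IsReduced X] in
/-- The irreducible components of a connected curve of genus zero are projective lines. -/
theorem exists_line (hdim : topologicalKrullDim X = 1) (hg : Curv2.genus k X = 0)
    (C : irreducibleComponents (X : Type u)) :
    ∃ ι : CohB1.ProjSpace 1 k ⟶ X, ι ≫ (X ↘ Spec (CommRingCat.of k)) = CohB1.ProjSpace.toSpec 1 k ∧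
      IsClosedImmersion ι ∧ Set.range ι = C.1 := by
  have hN : IsNoetherian X := CurveCoh.noetherianSpace k X
  have hirr := irreducible_comp C.1 C.2
  have hNs := K326.SemiStab.isNoetherian_sub k X (compIdeal C.1 C.2)
  have hP : IsProper ((compIdeal C.1 C.2).subscheme ↘ Spec (CommRingCat.of k)) :=
    inferInstanceAs (IsProper ((compIdeal C.1 C.2).subschemeι ≫ (X ↘ (Spec (CommRingCat.of k)))))
  have hd := K326.SemiStab.dim_comp X C.2 (TailMain.pure_of_connected X hdim C.1 C.2)
  have hred : IsReduced (compIdeal C.1 C.2).subscheme := inferInstance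
  have hint : IsIntegral (compIdeal C.1 C.2).subscheme := isIntegral_of_irreducibleSpace_of_isReduced _
  have hfin := Groth.Agent.S0002.result k (compIdeal C.1 C.2).subscheme (Coh.structureModule _)
    (Groth.Agent.CurvesB.UnitCoh.isCoh_structureModule _) 1
  obtain ⟨e, he⟩ := K896.TailBridge.exists_iso_P1 k (compIdeal C.1 C.2).subscheme hd
    (Module.finrank_zero_iff.mp (K980.Irred.genus_comp_eq_zero k X hdim.le hg _))
  refine ⟨e.inv ≫ (compIdeal C.1 C.2).subschemeι, ?_, inferInstance, ?_⟩
  · rw [Category.assoc, Iso.inv_comp_eq, he]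
    rfl
  · refine Eq.trans ?_ (range_comp C.1 C.2)
    ext x
    constructor
    · rintro ⟨y, rfl⟩
      exact ⟨e.inv y, rfl⟩
    · rintro ⟨y, rfl⟩
      obtain ⟨z, rfl⟩ := e.inv.surjective y
      exact ⟨z, rfl⟩

/-- **A connected curve of genus zero is covered by an ordered list of projective lines.** -/
theorem exists_cover (hdim : topologicalKrullDim X = 1) (hg : Curv2.genus k X = 0) :
    ∃ (m : ℕ) (ι : Fin (m + 1) → (CohB1.ProjSpace 1 k ⟶ X)),
      (∀ i, ι i ≫ (X ↘ Spec (CommRingCat.of k)) = CohB1.ProjSpace.toSpec 1 k) ∧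
      (∀ i, IsClosedImmersion (ι i)) ∧ (∀ x : X, ∃ i, x ∈ Set.range (ι i)) ∧
      (∀ i, i ≠ 0 → ∃ j < i, ∃ p q : Spec (CommRingCat.of k) ⟶ CohB1.ProjSpace 1 k,
        p ≫ CohB1.ProjSpace.toSpec 1 k = 𝟙 _ ∧ q ≫ CohB1.ProjSpace.toSpec 1 k = 𝟙 _ ∧ p ≫ ι i = q ≫ ι j) ∧
      (∀ L : X.Modules, PicF.IsInvertible L →
        Curv2.deg k X L 1 = ∑ i, Curv2.deg k (CohB1.ProjSpace 1 k) ((Scheme.Modules.pullback (ι i)).obj L) 1) := by
  have hN : IsNoetherian X := CurveCoh.noetherianSpace k X
  have hfin : Finite (irreducibleComponents (X : Type u)) :=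
    TopologicalSpace.NoetherianSpace.finite_irreducibleComponents
  let _ : Fintype (irreducibleComponents (X : Type u)) := Fintype.ofFinite _
  have hne : Nonempty (irreducibleComponents (X : Type u)) :=
    ⟨⟨_, irreducibleComponent_mem_irreducibleComponents (Classical.arbitrary X)⟩⟩
  obtain ⟨m, f, hf⟩ := exists_enum (fun a b : irreducibleComponents (X : Type u) => (a.1 ∩ b.1).Nonempty)
    (fun A hA hA' => exists_inter A hA hA')
  choose ι hι1 hι2 hι3 using exists_line k X hdim hg
  refine ⟨m, fun i => ι (f i), fun i => hι1 _, fun i => hι2 _, fun x => ?_, fun i hi => ?_, fun L hL => ?_⟩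
  · obtain ⟨i, hi⟩ := f.surjective ⟨_, irreducibleComponent_mem_irreducibleComponents x⟩
    refine ⟨i, ?_⟩
    rw [hι3, hi]
    exact mem_irreducibleComponent
  · obtain ⟨j, hj, hij⟩ := hf i hi
    have := hι2 (f i)
    have := hι2 (f j)
    rw [← hι3, ← hι3] at hij
    obtain ⟨p, q, hp, hq, hpq⟩ := exists_common k X (ι (f i)) (ι (f j)) hij
    rw [hι1] at hp hq
    exact ⟨j, hj, p, q, hp, hq, hpq⟩
  · rw [K980.Irred.deg_eq_sum k X hdim.le (TailMain.pure_of_connected X hdim) hL, finsum_eq_sum_of_fintype,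
      ← f.sum_comp]
    refine Finset.sum_congr rfl fun i _ => ?_
    have := hι2 (f i)
    exact K900.DegC.degC_eq k (f i) (ι (f i)) (hι3 (f i)) (hι1 (f i)) L

end

end K519.RatTree
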