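import Groth.Agent.Fano.K475.RatClass
import Groth.Agent.Fano.K123.Van

/-!
# Values of sections of an invertible module along a morphism

`Crd s h b`: the sections `s` of `L` have the values `b` along `h : S ⟶ X`, for some generator of `h^* L`.
-/

set_option autoImplicit false
universe u

open CategoryTheory AlgebraicGeometry Limits TopologicalSpace Opposite

namespace K519.SecVal

open Groth.Agent.Fdesc.LocGen K390.PnSec K745.ConDef K475.PtCoord K475.RatClass K330.FormSec LefPen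

variable {X Y S T : Scheme.{u}}

/-- The sections `s` of `L` have the values `b` along `h`, for some generator of the pull back of `L`. -/
def Crd {I : Type*} {L : X.Modules} (s : I → Γ(L, ⊤)) (h : S ⟶ X) (b : I → Γ(S, ⊤)) : Prop :=
  ∃ e : Γ((Scheme.Modules.pullback h).obj L, ⊤), IsGen e ∧ ∀ i, pullTop h (s i) = b i • e

section

variable {I : Type*} {L : X.Modules} {s : I → Γ(L, ⊤)} {h : S ⟶ X} {b : I → Γ(S, ⊤)}

theorem of_iso {M : S.Modules} (τ : (Scheme.Modules.pullback h).obj L ≅ M) {e : Γ(M, ⊤)} (he : IsGen e)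
    (h' : ∀ i, τ.hom.app ⊤ (pullTop h (s i)) = b i • e) : Crd s h b := by
  refine ⟨τ.inv.app ⊤ e, he.app τ.inv, fun i => ?_⟩
  have h1 : τ.inv.app ⊤ (τ.hom.app ⊤ (pullTop h (s i))) = pullTop h (s i) := congr(($(τ.hom_inv_id).app ⊤) _)
  rw [← h1, h' i]
  exact Scheme.Modules.Hom.app_smul τ.inv _ _

theorem Crd.unit {b' : I → Γ(S, ⊤)} (h1 : Crd s h b) (h2 : Crd s h b') :
    ∃ u : Γ(S, ⊤), IsUnit u ∧ ∀ i, b' i = u * b i := by
  obtain ⟨e, he, hb⟩ := h1
  obtain ⟨e', he', hb'⟩ := h2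
  obtain ⟨u, hu, hu'⟩ := he'.exists_unit he
  refine ⟨u, hu, fun i => ?_⟩
  apply he'.ext
  rw [← hb', hb, mul_comm, mul_smul, hu']

theorem Crd.comp {r : Y ⟶ X} {h : S ⟶ Y} {b : I → Γ(S, ⊤)} (h1 : Crd (fun i => pullTop r (s i)) h b) :
    Crd s (h ≫ r) b := by
  obtain ⟨e, he, hb⟩ := h1
  refine of_iso ((Scheme.Modules.pullbackComp h r).symm.app L) he fun i => ?_
  have h2 : ((Scheme.Modules.pullbackComp h r).inv.app L).app ⊤ (pullTop (h ≫ r) (s i)) =
      pullTop h (pullTop r (s i)) := pullSec_comp h r (s i)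
  exact h2.trans (hb i)

theorem Crd.of_comp {r : Y ⟶ X} {h : S ⟶ Y} {b : I → Γ(S, ⊤)} (h1 : Crd s (h ≫ r) b) :
    Crd (fun i => pullTop r (s i)) h b := by
  obtain ⟨e, he, hb⟩ := h1
  refine of_iso ((Scheme.Modules.pullbackComp h r).app L) he fun i => ?_
  have h2 : ((Scheme.Modules.pullbackComp h r).hom.app L).app ⊤ (pullTop h (pullTop r (s i))) =
      pullTop (h ≫ r) (s i) := pullSec_comp' h r (U := ⊤) (s i)
  exact h2.trans (hb i)

theorem Crd.pull (h1 : Crd s h b) (g : T ⟶ S) : Crd s (g ≫ h) (fun i => g.appTop (b i)) := by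
  obtain ⟨e, he, hb⟩ := h1
  refine Crd.comp ⟨pullTop g e, he.pullTop g, fun i => ?_⟩
  exact (congrArg (pullTop g) (hb i)).trans (pullSec_smul g (b i) e)

theorem Crd.sum {J : Type*} [Fintype I] (h1 : Crd s h b) (a : J → I → Γ(X, ⊤)) :
    Crd (fun l => ∑ j, a l j • s j) h (fun l => ∑ j, h.appTop (a l j) * b j) := by
  obtain ⟨e, he, hb⟩ := h1
  refine ⟨e, he, fun l => ?_⟩
  rw [pullTop_sum_smul, Finset.sum_smul]
  refine Finset.sum_congr rfl fun j _ => ?_
  rw [hb j, smul_smul]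

theorem Crd.exists_ne_zero {m : ℕ} {s : Fin m → Γ(L, ⊤)} {b : Fin m → Γ(S, ⊤)} (h1 : Crd s h b)
    (hL : PicF.IsInvertible L) (hs : Gens s) [Nonempty S] : ∃ l, b l ≠ 0 := by
  by_contra hcon
  push Not at hcon
  obtain ⟨e, he, hb⟩ := h1
  obtain ⟨x⟩ := ‹Nonempty S›
  have h2 : h x ∈ ⨆ i, CohB1.genLocus L (homOf (s i)) := by
    have h3 : (⨆ i, CohB1.genLocus L (homOf (s i))) = ⊤ := hs
    rw [h3]; trivial
  obtain ⟨i, hi⟩ := Opens.mem_iSup.1 h2
  have h4 : x ∈ CohB1.genLocus _ (homOf (pullTop h (s i))) := by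
    rw [genLocus_pullTop h hL]
    exact hi
  obtain ⟨U, hxU, hU⟩ := (mem_genLocus_iff _ x).1 h4
  rw [sec_homOf, hb i, hcon i, zero_smul, map_zero] at hU
  have h3 : (1 : Γ(S, U)) = 0 := by
    apply hU.ext
    rw [smul_zero, smul_zero]
  have h5 : S.presheaf.germ U x hxU 1 = S.presheaf.germ U x hxU 0 := by rw [h3]
  rw [map_one, map_zero] at h5
  exact one_ne_zero h5

theorem Crd.van {f : X ⟶ T} {m d : ℕ} {s : Fin m → Γ(L, ⊤)} {b : Fin m → Γ(S, ⊤)} (h1 : Crd s h b)
    (hL : PicF.IsInvertible L) {F : MvPolynomial (Fin m) Γ(T, ⊤)} (hF : F.IsHomogeneous d) (hV : Van f s F) :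
    MvPolynomial.eval₂ (h ≫ f).appTop.hom b F = 0 := by
  obtain ⟨e, he, hb⟩ := h1
  have h2 := K123.Van.pullback hL hF hV h ⊤ e b he fun i => by
    rw [← hb i]
    exact res_refl _ _
  have h3 : ρV (h ≫ f) ⊤ = (h ≫ f).appTop.hom := by
    ext a
    exact ores_refl _
  rw [h3] at h2
  exact h2

end

section Field

variable {B : Type u} [Field B]

/-- An invertible module on the spectrum of a field has a generator. -/
theorem exists_isGen (M : (Spec (CommRingCat.of B)).Modules) (hM : PicF.IsInvertible M) :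
    ∃ e : Γ(M, ⊤), IsGen e := by
  obtain ⟨U, e, hx, he⟩ := (isInvertible_iff M).mp hM (IsLocalRing.closedPoint B)
  have hU : U = ⊤ := by
    rw [eq_top_iff]
    intro y _
    have : y = IsLocalRing.closedPoint B := Subsingleton.elim _ _
    rw [this]
    exact hx
  subst hU
  exact ⟨e, he⟩

theorem exists_crd {I : Type*} {L : X.Modules} (hL : PicF.IsInvertible L) (s : I → Γ(L, ⊤))
    (h : Spec (CommRingCat.of B) ⟶ X) : ∃ b : I → Γ(Spec (CommRingCat.of B), ⊤), Crd s h b := by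
  obtain ⟨e, he⟩ := exists_isGen ((Scheme.Modules.pullback h).obj L) (isInvertible_pullback h hL)
  choose b hb using fun i => he.exists_eq (pullTop h (s i))
  exact ⟨b, e, he, hb⟩

/-- A point of the projective space with values in a field has homogeneous coordinates. -/
theorem exists_HC' {k : Type u} [Field k] [Algebra k B] {n : ℕ} (P : Spec (CommRingCat.of B) ⟶ CohB1.ProjSpace n k)
    (hP : P ≫ CohB1.ProjSpace.toSpec n k = qB k B) : ∃ v : Fin (n + 1) → B, v ≠ 0 ∧ HC P v := by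
  obtain ⟨e, he⟩ := exists_isGen ((Scheme.Modules.pullback P).obj (O1 n k)) (isInvertible_pullback P (isInvertible_O1 n k))
  choose b hb using fun i => he.exists_eq (Groth.Agent.Ega2.H295.PnCoord.tsec P i)
  choose v hv using fun i => γ_surjective B (b i)
  have h1 : HasCoord P (fun l => γ B (v l)) := by
    refine ⟨_, e, he, ?_⟩
    have h2 := GivenBy.refl P
    have h3 : (fun i => Groth.Agent.Ega2.H295.PnCoord.tsec P i) = fun l => γ B (v l) • e := by
      funext l
      rw [hb l, hv l]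
    rw [h3] at h2
    exact h2
  refine ⟨v, fun h0 => ?_, hP, h1⟩
  obtain ⟨l, hl⟩ := h1.exists_ne_zero
  apply hl
  rw [h0]
  exact map_zero _

end Field

section Form

variable {k : Type u} [Field k] {B : Type u} [CommRing B] [Algebra k B] {n d : ℕ}

/-- The values of forms at a point of projective space. -/
theorem crd_form {I : Type*} {L : X.Modules} {s : I → Γ(L, ⊤)} (ι : CohB1.ProjSpace n k ⟶ X)
    (τ : (Scheme.Modules.pullback ι).obj L ≅ Twist.twistProjSpace n k (d : ℤ)) (F : I → Form n k d)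
    (hF : ∀ j, τ.hom.app ⊤ (pullTop ι (s j)) = glob (F j)) {P : Spec (CommRingCat.of B) ⟶ CohB1.ProjSpace n k}
    {v : Fin (n + 1) → B} (hP : HC P v) {j₀ : Fin (n + 1)} (hj : IsUnit (v j₀)) :
    Crd s (P ≫ ι) (fun j => γ B (MvPolynomial.aeval v (F j).1)) := by
  obtain ⟨e, he, hG⟩ := hP.2.exists_gen (j := j₀) (hj.map (γ B)) d
  refine Crd.comp (of_iso ((Scheme.Modules.pullback P).mapIso τ) he fun j => ?_)
  have h1 : ((Scheme.Modules.pullback P).map τ.hom).app ⊤ (pullTop P (pullTop ι (s j))) =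
      pullTop P (τ.hom.app ⊤ (pullTop ι (s j))) := pullback_map_pullSec P τ.hom (U := ⊤) _
  rw [hF j] at h1
  refine h1.trans ((hG (F j)).trans ?_)
  rw [hP.1, val_γ]
  rfl

end Form

end K519.SecVal
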