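import Mathlib.FieldTheory.AlgebraicClosure
import Mathlib.RingTheory.AlgebraicIndependent.TranscendenceBasis
import Groth.Agent.CalgC.DimFT

/-!
# Transcendence degrees of tuples: maps from a tree of lines

* `TrLE F m S`: the elements of `S` are algebraic over `F(t)` for a finite set `t` of at most `m` elements.
* `TrLE.comp`: transitivity.
* `trLE_of_ringKrullDim_le`: from the Krull dimension of a finite type algebra mapping to the field.
* `tree`: the transcendence degree of the coefficients of a tuple of polynomial curves, `m + 1` of them, each one meeting a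
  previous one, on a hypersurface.
-/

set_option autoImplicit false
universe u v w

open Polynomial

namespace K519.TrBound

section Basic

variable {F : Type u} {K : Type v} [Field F] [Field K] [Algebra F K]

/-- The elements of `S` are algebraic over the field generated by at most `m` elements. -/
def TrLE (F : Type u) {K : Type v} [Field F] [Field K] [Algebra F K] (m : ℕ) (S : Set K) : Prop :=
  ∃ t : Finset K, t.card ≤ m ∧ ∀ s ∈ S, IsAlgebraic (IntermediateField.adjoin F (t : Set K)) s

theorem TrLE.mono {m m' : ℕ} {S S' : Set K} (h : TrLE F m S) (hm : m ≤ m') (hS : S' ⊆ S) : TrLE F m' S' := by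
  obtain ⟨t, ht, h⟩ := h
  exact ⟨t, ht.trans hm, fun s hs => h s (hS hs)⟩

theorem trLE_empty : TrLE F 0 (∅ : Set K) := ⟨∅, by simp, fun s hs => absurd hs (Set.notMem_empty _)⟩

/-- Elements algebraic over `L` form a field: an element algebraic over a subfield all of whose generators are
algebraic over `L` is algebraic over `L`. -/
theorem isAlgebraic_of_adjoin {L : IntermediateField F K} {S : Set K} (hS : ∀ s ∈ S, IsAlgebraic L s) {x : K}
    (hx : IsAlgebraic (IntermediateField.adjoin F S) x) : IsAlgebraic L x := by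
  let A : IntermediateField L K := algebraicClosure L K
  have hA : ∀ y : K, y ∈ A ↔ IsAlgebraic L y := fun y => mem_algebraicClosure_iff
  have h1 : IntermediateField.adjoin F S ≤ A.restrictScalars F := by
    rw [IntermediateField.adjoin_le_iff]
    intro s hs
    exact (hA s).mpr (hS s hs)
  have h2 : IsAlgebraic A x := by
    obtain ⟨p, hp, hpx⟩ := hx
    let φ : IntermediateField.adjoin F S →+* A :=
      { toFun := fun y => ⟨y.1, h1 y.2⟩
        map_one' := rfl
        map_mul' := fun _ _ => rfl
        map_zero' := rfl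
        map_add' := fun _ _ => rfl }
    refine ⟨p.map φ, (Polynomial.map_ne_zero_iff φ.injective).mpr hp, ?_⟩
    rw [aeval_def, eval₂_map]
    rw [aeval_def] at hpx
    exact hpx
  have h3 : Algebra.IsAlgebraic L A := inferInstance
  exact h2.restrictScalars L

theorem isAlgebraic_mono {L L' : IntermediateField F K} (h : L ≤ L') {x : K} (hx : IsAlgebraic L x) :
    IsAlgebraic L' x := by
  obtain ⟨p, hp, hpx⟩ := hx
  refine ⟨p.map (IntermediateField.inclusion h).toRingHom, (Polynomial.map_ne_zero_iff
    (IntermediateField.inclusion h).toRingHom.injective).mpr hp, ?_⟩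
  rw [aeval_def, eval₂_map]
  rw [aeval_def] at hpx
  exact hpx

open Classical in
theorem TrLE.comp {m m' : ℕ} {S S' : Set K} (h : TrLE F m S) (h' : TrLE (IntermediateField.adjoin F S) m' S') :
    TrLE F (m + m') (S ∪ S') := by
  obtain ⟨t, ht, h⟩ := h
  obtain ⟨t', ht', h'⟩ := h'
  refine ⟨t ∪ t', (Finset.card_union_le t t').trans (add_le_add ht ht'), ?_⟩
  have h0 : IntermediateField.adjoin F (t : Set K) ≤ IntermediateField.adjoin F ((t ∪ t' : Finset K) : Set K) := by
    refine IntermediateField.adjoin.mono F _ _ ?_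
    rw [Finset.coe_union]
    exact Set.subset_union_left
  have h1 : ∀ s ∈ S, IsAlgebraic (IntermediateField.adjoin F ((t ∪ t' : Finset K) : Set K)) s :=
    fun s hs => isAlgebraic_mono h0 (h s hs)
  have h2 : ∀ s ∈ (S ∪ (t' : Set K)), IsAlgebraic (IntermediateField.adjoin F ((t ∪ t' : Finset K) : Set K)) s := by
    rintro s (hs | hs)
    · exact h1 s hs
    · have h3 : s ∈ IntermediateField.adjoin F ((t ∪ t' : Finset K) : Set K) :=
        IntermediateField.subset_adjoin F _ (by rw [Finset.coe_union]; exact Or.inr hs)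
      exact isAlgebraic_algebraMap (⟨s, h3⟩ : IntermediateField.adjoin F ((t ∪ t' : Finset K) : Set K))
  rintro s (hs | hs)
  · exact h1 s hs
  · refine isAlgebraic_of_adjoin h2 ?_
    have h4 := h' s hs
    obtain ⟨p, hp, hps⟩ := h4
    have h5 : (IntermediateField.adjoin (IntermediateField.adjoin F S) (t' : Set K)).restrictScalars F ≤
        IntermediateField.adjoin F (S ∪ (t' : Set K)) := by
      rw [IntermediateField.adjoin_adjoin_left]
    let φ : IntermediateField.adjoin (IntermediateField.adjoin F S) (t' : Set K) →+*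
        IntermediateField.adjoin F (S ∪ (t' : Set K)) :=
      { toFun := fun y => ⟨y.1, h5 y.2⟩
        map_one' := rfl
        map_mul' := fun _ _ => rfl
        map_zero' := rfl
        map_add' := fun _ _ => rfl }
    refine ⟨p.map φ, (Polynomial.map_ne_zero_iff φ.injective).mpr hp, ?_⟩
    rw [aeval_def, eval₂_map]
    rw [aeval_def] at hps
    exact hps

open scoped IntermediateField.algebraAdjoinAdjoin in
theorem trdeg_adjoin_le (t : Finset K) :
    Algebra.trdeg F (IntermediateField.adjoin F (t : Set K)) ≤ t.card := by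
  let B := Algebra.adjoin F (t : Set K)
  let f : MvPolynomial t F →ₐ[F] B := MvPolynomial.aeval fun x => ⟨x.1, Algebra.subset_adjoin x.2⟩
  have hf : Function.Surjective f := by
    have h1 : B.val.comp f = MvPolynomial.aeval fun x : t => (x.1 : K) := by
      ext x
      simp [f]
    intro y
    have h2 : y.1 ∈ (MvPolynomial.aeval fun x : t => (x.1 : K) : MvPolynomial t F →ₐ[F] K).range := by
      have h3 : (MvPolynomial.aeval fun x : t => (x.1 : K) : MvPolynomial t F →ₐ[F] K).range = B := by
        rw [← Algebra.adjoin_range_eq_range_aeval]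
        congr 1
        ext z
        simp
      rw [h3]
      exact y.2
    obtain ⟨z, hz⟩ := h2
    refine ⟨z, Subtype.ext ?_⟩
    exact (congrArg (fun g => g z) h1).trans hz
  have h1 := lift_trdeg_le_of_surjective f hf
  rw [MvPolynomial.trdeg_of_isDomain] at h1
  have h2 : Algebra.trdeg F B ≤ t.card := by
    have h3 : Cardinal.lift.{max u v} (Algebra.trdeg F B) ≤ Cardinal.lift.{max u v} (t.card : Cardinal.{v}) := by
      refine h1.trans ?_
      simp
    exact Cardinal.lift_le.{max u v}.mp h3
  have halg : Algebra.IsAlgebraic B (IntermediateField.adjoin F (t : Set K)) := inferInstance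
  have h5 := trdeg_add_eq F B (A := IntermediateField.adjoin F (t : Set K))
  rw [trdeg_eq_zero (R := B), add_zero] at h5
  rw [← h5]
  exact h2

/-- The transcendence degree of the field generated by `S`. -/
theorem TrLE.trdeg_le {m : ℕ} {S : Set K} (h : TrLE F m S) :
    Algebra.trdeg F (IntermediateField.adjoin F S) ≤ m := by
  obtain ⟨t, ht, h⟩ := h
  let E := algebraicClosure (IntermediateField.adjoin F (t : Set K)) K
  have h1 : IntermediateField.adjoin F S ≤ E.restrictScalars F := by
    rw [IntermediateField.adjoin_le_iff]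
    intro s hs
    exact mem_algebraicClosure_iff.mpr (h s hs)
  have h2 : Algebra.trdeg F (IntermediateField.adjoin F S) ≤ Algebra.trdeg F (E.restrictScalars F) :=
    trdeg_le_of_injective (IntermediateField.inclusion h1) (IntermediateField.inclusion h1).injective
  refine h2.trans ?_
  have halg : Algebra.IsAlgebraic (IntermediateField.adjoin F (t : Set K)) E := inferInstance
  have h5 := trdeg_add_eq F (IntermediateField.adjoin F (t : Set K)) (A := E)
  rw [trdeg_eq_zero (R := IntermediateField.adjoin F (t : Set K)) (A := E), add_zero] at h5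
  refine (h5.symm.le.trans (trdeg_adjoin_le t)).trans ?_
  exact_mod_cast ht

/-- The elements of the image of a finite type algebra of Krull dimension at most `m`. -/
theorem trLE_of_dim {B : Type w} [CommRing B] [Algebra F B] [Algebra.FiniteType F B] {m : ℕ}
    (hB : ringKrullDim B ≤ m) (f : B →ₐ[F] K) : TrLE F m (Set.range f) := by
  let D := f.range
  have hD : Algebra.FiniteType F D := Algebra.FiniteType.of_surjective f.rangeRestrict f.rangeRestrict_surjective
  have h1 : ringKrullDim D ≤ m :=
    (ringKrullDim_le_of_surjective f.rangeRestrict.toRingHom f.rangeRestrict_surjective).trans hB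
  rw [Groth.Agent.CalgC.DimFT.ringKrullDim_eq_trdeg F D] at h1
  have h2 : Cardinal.toENat (Algebra.trdeg F D) ≤ m := by exact_mod_cast h1
  have h3 : Algebra.trdeg F D ≤ m := by
    have := Cardinal.toENat_le_natCast.mp h2
    exact this
  obtain ⟨s, hs⟩ := exists_isTranscendenceBasis F D
  have h4 : Cardinal.mk s ≤ m := hs.cardinalMk_eq_trdeg.le.trans h3
  have hfin : Finite s := Cardinal.lt_aleph0_iff_finite.mp (h4.trans_lt (Cardinal.natCast_lt_aleph0))
  have hft : ((fun x : D => (x : K)) '' s).Finite := (Set.toFinite s).image _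
  refine ⟨hft.toFinset, ?_, ?_⟩
  · have h5 : Nat.card s ≤ m := by
      have h6 : (Nat.card s : Cardinal) ≤ m := by
        rw [Nat.cast_card]
        exact h4
      exact_mod_cast h6
    rw [← Set.ncard_eq_toFinset_card _ hft]
    exact (Set.ncard_image_le (Set.toFinite s)).trans h5
  · rintro _ ⟨b, rfl⟩
    have h6 := hs.isAlgebraic
    have h7 : IsAlgebraic (Algebra.adjoin F (Set.range ((↑) : s → D))) (f.rangeRestrict b) :=
      h6.isAlgebraic _
    obtain ⟨q, hq, hqb⟩ := h7
    let ψ : Algebra.adjoin F (Set.range ((↑) : s → D)) →+* IntermediateField.adjoin F ((hft.toFinset : Set K)) :=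
      { toFun := fun y => ⟨((y : D) : K), by
          have h8 : (y : D) ∈ Algebra.adjoin F (Set.range ((↑) : s → D)) := y.2
          have h9 : Algebra.adjoin F (Set.range ((↑) : s → D)) ≤
              (IntermediateField.adjoin F ((hft.toFinset : Set K))).toSubalgebra.comap D.val := by
            rw [Algebra.adjoin_le_iff]
            rintro _ ⟨x, rfl⟩
            refine IntermediateField.subset_adjoin F _ ?_
            rw [Set.Finite.coe_toFinset]
            exact ⟨x, x.2, rfl⟩
          exact h9 h8⟩
        map_one' := rfl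
        map_mul' := fun _ _ => rfl
        map_zero' := rfl
        map_add' := fun _ _ => rfl }
    have hψ : Function.Injective ψ := fun x y h => by
      have h8 := congrArg (algebraMap (IntermediateField.adjoin F ((hft.toFinset : Set K))) K) h
      exact Subtype.ext (Subtype.ext h8)
    refine ⟨q.map ψ, (Polynomial.map_ne_zero_iff hψ).mpr hq, ?_⟩
    rw [aeval_def, eval₂_map]
    have h10 := congrArg D.val.toRingHom hqb
    rw [aeval_def, Polynomial.hom_eval₂, map_zero] at h10
    exact h10

end Basic

section Tree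

variable {Ω : Type u} [Field Ω] {n : ℕ}

/-- The polynomial `Σ_{j ≤ e} c_j t^j`. -/
noncomputable def cp {K : Type v} [CommRing K] (e : ℕ) (c : ℕ → K) : K[X] :=
  ∑ j ∈ Finset.range (e + 1), monomial j (c j)

theorem eval_zero_cp {K : Type v} [CommRing K] (e : ℕ) (c : ℕ → K) : (cp e c).eval 0 = c 0 := by
  rw [cp, eval_finsetSum, Finset.sum_eq_single 0]
  · simp
  · intro j _ hj
    rw [eval_monomial, zero_pow hj, mul_zero]
  · intro h
    exact absurd (Finset.mem_range.mpr (Nat.succ_pos e)) h

/-- The curves of degree `e` in the hypersurface `G = 0` (in the affine cone) with given nonzero starting point form a family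
of dimension at most `e * δ`. -/
def H2 (G : MvPolynomial (Fin (n + 1)) Ω) (δ : ℕ) : Prop :=
  ∀ (e : ℕ) (F K : Type u) [Field F] [Field K] [Algebra Ω F] [Algebra F K] [Algebra Ω K] [IsScalarTower Ω F K]
    (a : Fin (n + 1) → F) (c : Fin (n + 1) → ℕ → K), a ≠ 0 → (∀ l, c l 0 = algebraMap F K (a l)) →
    MvPolynomial.aeval (fun l => cp e (c l)) G = 0 → TrLE F (e * δ) {x | ∃ l, ∃ j ≤ e, x = c l j}

theorem aeval_eval {K : Type u} [Field K] [Algebra Ω K] (G : MvPolynomial (Fin (n + 1)) Ω) (f : Fin (n + 1) → K[X])
    (h : MvPolynomial.aeval f G = 0) (b : K) : MvPolynomial.aeval (fun l => (f l).eval b) G = 0 := by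
  have h1 := congrArg (Polynomial.evalRingHom b) h
  rw [map_zero, MvPolynomial.aeval_def, MvPolynomial.eval₂_eq', map_sum] at h1
  rw [MvPolynomial.aeval_def, MvPolynomial.eval₂_eq', ← h1]
  refine Finset.sum_congr rfl fun x _ => ?_
  rw [map_mul, map_prod]
  congr 1
  · rw [coe_evalRingHom, IsScalarTower.algebraMap_apply Ω K K[X], Polynomial.algebraMap_eq, eval_C]
  · refine Finset.prod_congr rfl fun i _ => ?_
    rw [map_pow, coe_evalRingHom]

theorem le_of_add_one_le {a : WithBot ℕ∞} {n : ℕ} (h : a + 1 ≤ ((n + 1 : ℕ) : WithBot ℕ∞)) :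
    a ≤ (n : WithBot ℕ∞) := by
  induction a using WithBot.recBotCoe with
  | bot => exact bot_le
  | coe b =>
    have h1 : b + 1 ≤ ((n + 1 : ℕ) : ℕ∞) := by exact_mod_cast h
    have h2 : b ≤ (n : ℕ∞) := by
      rw [Nat.cast_add, Nat.cast_one] at h1
      exact (ENat.add_le_add_iff_right ENat.one_ne_top).mp h1
    exact_mod_cast h2

/-- The points of the cone over a hypersurface. -/
theorem trLE_point {K : Type u} [Field K] [Algebra Ω K] {G : MvPolynomial (Fin (n + 1)) Ω} (hG : G ≠ 0)
    (v : Fin (n + 1) → K) (hv : MvPolynomial.aeval v G = 0) : TrLE Ω n (Set.range v) := by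
  let B := MvPolynomial (Fin (n + 1)) Ω ⧸ Ideal.span {G}
  have hB : ringKrullDim B ≤ n := by
    have h1 := ringKrullDim_quotient_succ_le_of_nonZeroDivisor (mem_nonZeroDivisors_of_ne_zero hG)
    rw [MvPolynomial.ringKrullDim_of_isNoetherianRing, ringKrullDim_eq_zero_of_field, zero_add,
      Nat.card_eq_fintype_card, Fintype.card_fin] at h1
    exact le_of_add_one_le h1
  let f : B →ₐ[Ω] K := Ideal.Quotient.liftₐ _ (MvPolynomial.aeval v) (by
    intro a ha
    rw [Ideal.mem_span_singleton] at ha
    obtain ⟨b, rfl⟩ := ha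
    rw [map_mul, hv, zero_mul])
  refine (trLE_of_dim hB f).mono le_rfl ?_
  rintro _ ⟨l, rfl⟩
  exact ⟨Ideal.Quotient.mk _ (MvPolynomial.X l), by
    change MvPolynomial.aeval v (MvPolynomial.X l) = v l
    rw [MvPolynomial.aeval_X]⟩

/-- The transcendence degree of the coefficients of a tree of curves on a hypersurface. -/
theorem tree {K : Type u} [Field K] [Algebra Ω K] {G : MvPolynomial (Fin (n + 1)) Ω} (hG : G ≠ 0) {δ : ℕ}
    (hH : H2 G δ) (m : ℕ) (e : ℕ → ℕ) (c : ℕ → Fin (n + 1) → ℕ → K)
    (hc : ∀ i ≤ m, MvPolynomial.aeval (fun l => cp (e i) (c i l)) G = 0) (h0 : ∀ i ≤ m, ∃ l, c i l 0 ≠ 0)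
    (hmeet : ∀ i, 0 < i → i ≤ m → ∃ j < i, ∃ b u : Ω, ∀ l,
      c i l 0 = algebraMap Ω K u * (cp (e j) (c j l)).eval (algebraMap Ω K b)) :
    TrLE Ω (n + (∑ i ∈ Finset.range (m + 1), e i) * δ) {x | ∃ i ≤ m, ∃ l, ∃ j ≤ e i, x = c i l j} := by
  induction m with
  | zero =>
    have h1 := trLE_point hG (fun l => c 0 l 0) (by
      have h2 := aeval_eval G _ (hc 0 le_rfl) 0
      simp only [eval_zero_cp] at h2
      exact h2)
    have h3 := hH (e 0) (IntermediateField.adjoin Ω (Set.range fun l => c 0 l 0)) K
      (fun l => ⟨c 0 l 0, IntermediateField.subset_adjoin Ω _ ⟨l, rfl⟩⟩) (c 0) (by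
        obtain ⟨l, hl⟩ := h0 0 le_rfl
        intro h
        apply hl
        exact congrArg Subtype.val (congrFun h l)) (fun l => rfl) (hc 0 le_rfl)
    refine (h1.comp h3).mono (by simp) ?_
    rintro x ⟨i, hi, l, j, hj, rfl⟩
    obtain rfl : i = 0 := by omega
    exact Or.inr ⟨l, j, hj, rfl⟩
  | succ m ih =>
    have h1 := ih (fun i hi => hc i (by omega)) (fun i hi => h0 i (by omega)) (fun i hi hi' => hmeet i hi (by omega))
    obtain ⟨j, hj, b, u, hbu⟩ := hmeet (m + 1) (by omega) le_rfl
    set S : Set K := {x | ∃ i ≤ m, ∃ l, ∃ j ≤ e i, x = c i l j} with hS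
    have hmem : ∀ l, c (m + 1) l 0 ∈ IntermediateField.adjoin Ω S := by
      intro l
      rw [hbu l, cp, eval_finsetSum]
      refine mul_mem (algebraMap_mem _ u) (sum_mem fun a ha => ?_)
      rw [eval_monomial]
      refine mul_mem (IntermediateField.subset_adjoin Ω _ ⟨j, by omega, l, a, ?_, rfl⟩)
        (pow_mem (algebraMap_mem _ b) _)
      have := Finset.mem_range.mp ha
      omega
    have h3 := hH (e (m + 1)) (IntermediateField.adjoin Ω S) K (fun l => ⟨c (m + 1) l 0, hmem l⟩) (c (m + 1)) (by
        obtain ⟨l, hl⟩ := h0 (m + 1) le_rfl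
        intro h
        apply hl
        exact congrArg Subtype.val (congrFun h l)) (fun l => rfl) (hc (m + 1) le_rfl)
    refine (h1.comp h3).mono ?_ ?_
    · rw [Finset.sum_range_succ _ (m + 1)]
      ring_nf
      rfl
    · rintro x ⟨i, hi, l, j, hj, rfl⟩
      rcases Nat.lt_or_ge i (m + 1) with h | h
      · exact Or.inl ⟨i, by omega, l, j, hj, rfl⟩
      · obtain rfl : i = m + 1 := by omega
        exact Or.inr ⟨l, j, hj, rfl⟩

end Tree

end K519.TrBound
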