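import Groth.Agent.Fano.K519.TrBound
import Mathlib.LinearAlgebra.Matrix.ToLin
import Mathlib.Algebra.MvPolynomial.Funext
import Mathlib.RingTheory.MvPolynomial.Homogeneous
import Mathlib.RingTheory.Localization.FractionRing

/-!
# Trees of lines on a hypersurface: the algebra

`tree_forms`: a tuple of linear combinations `Σ_j φ_{lj} F_{ij}` of binary forms, one for each vertex `i` of a tree of projective
lines, on a hypersurface `G = 0`, without common zeros; the transcendence degree of the coefficients `φ`.
-/

set_option autoImplicit false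
universe u v w

open Polynomial

namespace K519.TrBound

section

variable {F : Type u} {K : Type v} [Field F] [Field K] [Algebra F K]

theorem TrLE.adjoin {m : ℕ} {S S' : Set K} (h : TrLE F m S) (hS : ∀ x ∈ S', x ∈ IntermediateField.adjoin F S) :
    TrLE F m S' := by
  obtain ⟨t, ht, h⟩ := h
  refine ⟨t, ht, fun s hs => isAlgebraic_of_adjoin h ?_⟩
  exact isAlgebraic_algebraMap (⟨s, hS s hs⟩ : IntermediateField.adjoin F S)

end

section Line

variable {Ω : Type u} [Field Ω]

/-- The form `F` on the line `A + t W`. -/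
noncomputable def onLine (A W : Fin 2 → Ω) (F : MvPolynomial (Fin 2) Ω) : Ω[X] :=
  MvPolynomial.aeval (fun s => C (A s) + X * C (W s)) F

theorem natDegree_onLine_le (A W : Fin 2 → Ω) {F : MvPolynomial (Fin 2) Ω} {e : ℕ} (hF : F.IsHomogeneous e) :
    (onLine A W F).natDegree ≤ e := by
  rw [onLine, MvPolynomial.aeval_def, MvPolynomial.eval₂_eq']
  refine natDegree_sum_le_of_forall_le _ _ fun x hx => ?_
  have h1 : ∑ i, x i = e := by
    have := hF (MvPolynomial.mem_support_iff.1 hx)
    rw [Finsupp.weight_apply] at this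
    rw [← this, Finsupp.sum_fintype _ _ (by simp)]
    simp
  have h2 : ∀ s, ((C (A s) + X * C (W s)) ^ x s).natDegree ≤ x s := by
    intro s
    refine (natDegree_pow_le_of_le (x s) (m := 1) ?_).trans (by rw [mul_one])
    refine (natDegree_add_le _ _).trans (max_le ?_ ?_)
    · rw [natDegree_C]; exact Nat.zero_le _
    · exact (natDegree_mul_le).trans (by rw [natDegree_C, add_zero]; exact natDegree_X_le)
  refine (natDegree_mul_le).trans ?_
  rw [algebraMap_eq, natDegree_C, zero_add]
  refine (natDegree_prod_le _ _).trans ?_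
  rw [← h1]
  exact Finset.sum_le_sum fun s _ => h2 s

theorem eval_onLine (A W : Fin 2 → Ω) (F : MvPolynomial (Fin 2) Ω) (b : Ω) :
    (onLine A W F).eval b = MvPolynomial.eval (fun s => A s + b * W s) F := by
  have h1 : (Polynomial.evalRingHom b).comp (MvPolynomial.aeval (R := Ω) (S₁ := Ω[X])
      (fun s => C (A s) + X * C (W s))).toRingHom = MvPolynomial.eval (fun s => A s + b * W s) := by
    apply MvPolynomial.ringHom_ext
    · intro a
      simp
    · intro i
      simp only [AlgHom.toRingHom_eq_coe, RingHom.comp_apply, RingHom.coe_coe, MvPolynomial.aeval_X, coe_evalRingHom,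
        eval_add, eval_C, eval_mul, eval_X, MvPolynomial.eval_X]
  exact congr($h1 F)

theorem aeval_line {B : Type v} [CommRing B] [Algebra Ω B] (A W : Fin 2 → Ω) (F : MvPolynomial (Fin 2) Ω) (t : B) :
    MvPolynomial.aeval (fun s => algebraMap Ω B (A s) + t * algebraMap Ω B (W s)) F = Polynomial.aeval t (onLine A W F) := by
  have h1 : (Polynomial.aeval t : Ω[X] →ₐ[Ω] B).comp (MvPolynomial.aeval (R := Ω) (S₁ := Ω[X])
      (fun s => C (A s) + X * C (W s))) =
        MvPolynomial.aeval (fun s => algebraMap Ω B (A s) + t * algebraMap Ω B (W s)) := by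
    apply MvPolynomial.algHom_ext
    intro i
    simp only [AlgHom.comp_apply, MvPolynomial.aeval_X, map_add, map_mul, aeval_C, aeval_X]
  exact (congr($h1 F)).symm

theorem eval_smul_of_isHomogeneous {F : MvPolynomial (Fin 2) Ω} {e : ℕ} (hF : F.IsHomogeneous e) (u : Ω)
    (v : Fin 2 → Ω) : MvPolynomial.eval (fun s => u * v s) F = u ^ e * MvPolynomial.eval v F := by
  rw [MvPolynomial.eval_eq', MvPolynomial.eval_eq', Finset.mul_sum]
  refine Finset.sum_congr rfl fun x hx => ?_
  have h1 : ∑ i, x i = e := by
    have := hF (MvPolynomial.mem_support_iff.1 hx)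
    rw [Finsupp.weight_apply] at this
    rw [← this, Finsupp.sum_fintype _ _ (by simp)]
    simp
  rw [← h1, ← Finset.prod_pow_eq_pow_sum]
  simp only [mul_pow, Finset.prod_mul_distrib]
  ring

theorem decomp {a w : Fin 2 → Ω} (h : a 0 * w 1 - a 1 * w 0 ≠ 0) (x : Fin 2 → Ω) (s : Fin 2) :
    x s = (x 0 * w 1 - x 1 * w 0) / (a 0 * w 1 - a 1 * w 0) * a s +
      (a 0 * x 1 - a 1 * x 0) / (a 0 * w 1 - a 1 * w 0) * w s := by
  have h1 : (a 0 * w 1 - a 1 * w 0) * x s = (x 0 * w 1 - x 1 * w 0) * a s + (a 0 * x 1 - a 1 * x 0) * w s := by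
    fin_cases s
    · simp only [Fin.zero_eta]; ring
    · simp only [Fin.mk_one]; ring
  rw [div_mul_eq_mul_div, div_mul_eq_mul_div, ← add_div, eq_div_iff h, ← h1, mul_comm]

/-- A binary form vanishing on an affine line not through the origin is zero. -/
theorem eq_zero_of_onLine [Infinite Ω] {A W : Fin 2 → Ω} (hAW : A 0 * W 1 - A 1 * W 0 ≠ 0)
    {F : MvPolynomial (Fin 2) Ω} {e : ℕ} (hF : F.IsHomogeneous e) (h : onLine A W F = 0) : F = 0 := by
  have h1 : ∀ b : Ω, MvPolynomial.eval (fun s => A s + b * W s) F = 0 := by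
    intro b
    rw [← eval_onLine, h, eval_zero]
  have h2 : ∀ a b : Ω, a ≠ 0 → MvPolynomial.eval (fun s => a * A s + b * W s) F = 0 := by
    intro a b ha
    have h3 : (fun s => a * A s + b * W s) = fun s => a * (A s + (b / a) * W s) := by
      funext s
      field_simp
    rw [h3, eval_smul_of_isHomogeneous hF, h1, mul_zero]
  -- the polynomial `F(a A + b W)` in `a`
  have h4 : ∀ b : Ω, MvPolynomial.eval (fun s => b * W s) F = 0 := by
    intro b
    have h5 : onLine (fun s => b * W s) A F = 0 := by
      refine Polynomial.eq_zero_of_infinite_isRoot _ ?_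
      refine Set.Infinite.mono (s := {0}ᶜ) ?_ (Set.finite_singleton (0 : Ω)).infinite_compl
      intro a ha
      change (onLine (fun s => b * W s) A F).eval a = 0
      rw [eval_onLine, ← h2 a b ha]
      congr 1
      congr 1
      funext s
      ring
    have h6 := eval_onLine (fun s => b * W s) A F 0
    rw [h5, eval_zero] at h6
    rw [h6]
    congr 1
    congr 1
    funext s
    ring
  refine MvPolynomial.funext fun x => ?_
  rw [map_zero]
  have h7 : x = fun s => ((x 0 * W 1 - x 1 * W 0) / (A 0 * W 1 - A 1 * W 0)) * A s +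
      ((A 0 * x 1 - A 1 * x 0) / (A 0 * W 1 - A 1 * W 0)) * W s := funext (decomp hAW x)
  rw [h7]
  by_cases ha : (x 0 * W 1 - x 1 * W 0) / (A 0 * W 1 - A 1 * W 0) = 0
  · rw [ha]
    simp only [zero_mul, zero_add]
    exact h4 _
  · exact h2 _ _ ha

/-- A vector not proportional to finitely many given ones. -/
theorem exists_avoid [Infinite Ω] {ι : Type w} [Finite ι] (v : ι → Fin 2 → Ω) (hv : ∀ i, v i ≠ 0) :
    ∃ W : Fin 2 → Ω, ∀ i, v i 0 * W 1 - v i 1 * W 0 ≠ 0 := by
  have hfin : (Set.range fun i => v i 1 / v i 0).Finite := Set.finite_range _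
  obtain ⟨s, hs⟩ := hfin.infinite_compl.nonempty
  refine ⟨![1, s], fun i h => ?_⟩
  simp only [Matrix.cons_val_one, Matrix.cons_val_zero, mul_one] at h
  by_cases h0 : v i 0 = 0
  · rw [h0, zero_mul, zero_sub, neg_eq_zero] at h
    apply hv i
    funext j
    fin_cases j
    · exact h0
    · exact h
  · apply hs
    refine ⟨i, ?_⟩
    change v i 1 / v i 0 = s
    rw [div_eq_iff h0]
    linear_combination -h

end Line

section Tree

variable {Ω : Type u} [Field Ω] {n : ℕ}

theorem cp_coeff {K : Type v} [CommRing K] {e : ℕ} {Q : K[X]} (hQ : Q.natDegree ≤ e) : cp e (fun k => Q.coeff k) = Q := by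
  rw [cp]
  exact (Q.as_sum_range' (e + 1) (by omega)).symm

/-- The transcendence degree of the coefficients of a family of maps from a tree of lines. -/
theorem tree_forms [Infinite Ω] {K : Type u} [Field K] [Algebra Ω K] {G : MvPolynomial (Fin (n + 1)) Ω} (hG : G ≠ 0) {δ : ℕ}
    (hH : H2 G δ) (m N : ℕ) (E : Fin (m + 1) → ℕ) (F : Fin (m + 1) → Fin N → MvPolynomial (Fin 2) Ω)
    (hF : ∀ i j, (F i j).IsHomogeneous (E i)) (φ : Fin (n + 1) → Fin N → K)
    (hvan : ∀ (i : Fin (m + 1)) (B : Type u) [Field B] [Algebra K B] [Algebra Ω B] [IsScalarTower Ω K B]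
      (v : Fin 2 → B), v ≠ 0 →
      MvPolynomial.aeval (fun l => ∑ j, algebraMap K B (φ l j) * MvPolynomial.aeval v (F i j)) G = 0 ∧
        ∃ l, ∑ j, algebraMap K B (φ l j) * MvPolynomial.aeval v (F i j) ≠ 0)
    (hmeet : ∀ i, i ≠ 0 → ∃ j < i, ∃ (v w : Fin 2 → Ω) (u : Ω), v ≠ 0 ∧ w ≠ 0 ∧
      ∀ a, MvPolynomial.eval v (F i a) = u * MvPolynomial.eval w (F j a))
    (hinj : ∀ a : Fin N → Ω, (∀ i, ∑ j, a j • F i j = 0) → a = 0) :
    TrLE Ω (n + (∑ i, E i) * δ) {x | ∃ l j, x = φ l j} := by
  classical
  choose par hpar v w u hv hw hvw using hmeet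
  -- the starting points
  let A : Fin (m + 1) → Fin 2 → Ω := fun i => if h : i = 0 then ![1, 0] else v i h
  have hA0 : ∀ i, A i ≠ 0 := by
    intro i
    by_cases h : i = 0
    · simp only [A, dif_pos h]
      intro h'
      exact one_ne_zero (congrFun h' 0)
    · simp only [A, dif_neg h]
      exact hv i h
  let w' : Fin (m + 1) → Fin 2 → Ω := fun i => if h : i = 0 then ![1, 0] else w i h
  have hw0 : ∀ i, w' i ≠ 0 := by
    intro i
    by_cases h : i = 0
    · simp only [w', dif_pos h]
      intro h'
      exact one_ne_zero (congrFun h' 0)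
    · simp only [w', dif_neg h]
      exact hw i h
  obtain ⟨W, hW⟩ := exists_avoid (ι := Fin (m + 1) ⊕ Fin (m + 1)) (Sum.elim A w') (by
    rintro (i | i)
    · exact hA0 i
    · exact hw0 i)
  have hAW : ∀ i, A i 0 * W 1 - A i 1 * W 0 ≠ 0 := fun i => hW (Sum.inl i)
  have hwW : ∀ i, w' i 0 * W 1 - w' i 1 * W 0 ≠ 0 := fun i => hW (Sum.inr i)
  -- the curves
  let Q : Fin (m + 1) → Fin (n + 1) → K[X] := fun i l =>
    ∑ j, C (φ l j) * (onLine (A i) W (F i j)).map (algebraMap Ω K)
  have hQdeg : ∀ i l, (Q i l).natDegree ≤ E i := by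
    intro i l
    refine natDegree_sum_le_of_forall_le _ _ fun j _ => ?_
    refine (natDegree_mul_le).trans ?_
    rw [natDegree_C, zero_add]
    exact (natDegree_map_le).trans (natDegree_onLine_le _ _ (hF i j))
  have hQeval : ∀ i l (b : Ω), (Q i l).eval (algebraMap Ω K b) =
      ∑ j, φ l j * algebraMap Ω K (MvPolynomial.eval (fun s => A i s + b * W s) (F i j)) := by
    intro i l b
    simp only [Q, eval_finsetSum, eval_mul, eval_C]
    refine Finset.sum_congr rfl fun j _ => ?_
    rw [eval_map_algebraMap, aeval_algebraMap_apply, ← eval_onLine]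
    rfl
  have hS := tree (K := K) hG hH m (fun i => E (Fin.ofNat (m + 1) i)) (fun i l k => (Q (Fin.ofNat (m + 1) i) l).coeff k) ?_ ?_ ?_
  · have hsum : ∑ i ∈ Finset.range (m + 1), E (Fin.ofNat (m + 1) i) = ∑ i, E i := by
      rw [Finset.sum_range]
      refine Finset.sum_congr rfl fun i _ => ?_
      congr 1
      exact Fin.ofNat_val_eq_self i
    rw [hsum] at hS
    refine hS.adjoin ?_
    rintro x ⟨l, a, rfl⟩
    -- the left inverse
    let M : Matrix (Σ i : Fin (m + 1), Fin (E i + 1)) (Fin N) Ω := fun ik j => (onLine (A ik.1) W (F ik.1 j)).coeff ik.2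
    have hM : Function.Injective M.mulVecLin := by
      rw [← LinearMap.ker_eq_bot, LinearMap.ker_eq_bot']
      intro a ha
      refine hinj a fun i => ?_
      refine eq_zero_of_onLine (hAW i) (e := E i) ?_ ?_
      · exact MvPolynomial.IsHomogeneous.sum _ _ _ fun j _ => by
          rw [MvPolynomial.smul_eq_C_mul]
          simpa using (MvPolynomial.isHomogeneous_C (Fin 2) (a j)).mul (hF i j)
      · have h1 : onLine (A i) W (∑ j, a j • F i j) = ∑ j, a j • onLine (A i) W (F i j) := by
          simp only [onLine, map_sum, map_smul]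
        rw [h1]
        ext k
        rw [coeff_zero, finsetSum_coeff]
        simp only [coeff_smul, smul_eq_mul]
        by_cases hk : k ≤ E i
        · have h2 := congrFun ha ⟨i, ⟨k, by omega⟩⟩
          simp only [Matrix.mulVecLin_apply, Matrix.mulVec, dotProduct, M, Pi.zero_apply] at h2
          rw [← h2]
          exact Finset.sum_congr rfl fun j _ => mul_comm _ _
        · refine Finset.sum_eq_zero fun j _ => ?_
          have h3 : (onLine (A i) W (F i j)).natDegree < k :=
            lt_of_le_of_lt (natDegree_onLine_le _ _ (hF i j)) (by omega)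
          rw [coeff_eq_zero_of_natDegree_lt h3, mul_zero]
    obtain ⟨g, hg⟩ := LinearMap.exists_leftInverse_of_injective M.mulVecLin (LinearMap.ker_eq_bot.mpr hM)
    let R := LinearMap.toMatrix' g
    have hR : R * M = 1 := by
      have h1 := congrArg LinearMap.toMatrix' hg
      rw [LinearMap.toMatrix'_comp, LinearMap.toMatrix'_id] at h1
      have h2 : LinearMap.toMatrix' M.mulVecLin = M := LinearMap.toMatrix'_toLin' M
      rwa [h2] at h1
    have hRK : R.map (algebraMap Ω K) * M.map (algebraMap Ω K) = 1 := by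
      rw [← Matrix.map_mul, hR, Matrix.map_one _ (map_zero _) (map_one _)]
    have h3 : φ l = (R.map (algebraMap Ω K)).mulVec ((M.map (algebraMap Ω K)).mulVec (φ l)) := by
      rw [Matrix.mulVec_mulVec, hRK, Matrix.one_mulVec]
    rw [h3]
    refine sum_mem fun ik _ => ?_
    refine mul_mem ?_ ?_
    · exact algebraMap_mem _ _
    · have h4 : (M.map (algebraMap Ω K)).mulVec (φ l) ik = (Q ik.1 l).coeff ik.2 := by
        simp only [Matrix.mulVec, dotProduct, Q, finsetSum_coeff, coeff_C_mul, coeff_map, Matrix.map_apply, M]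
        exact Finset.sum_congr rfl fun j _ => mul_comm _ _
      rw [h4]
      refine IntermediateField.subset_adjoin Ω _ ?_
      refine ⟨ik.1, by have := ik.1.2; omega, l, ik.2, ?_, ?_⟩
      · have := ik.2.2
        rw [Fin.ofNat_val_eq_self]
        omega
      · rw [Fin.ofNat_val_eq_self]
  · intro i hi
    generalize Fin.ofNat (m + 1) i = i'
    have h1 : (fun l => cp (E i') (fun k => (Q i' l).coeff k)) = fun l => Q i' l := by
      funext l
      exact cp_coeff (hQdeg i' l)
    rw [h1]
    have hinjB : Function.Injective (algebraMap K[X] (FractionRing K[X])) := IsFractionRing.injective K[X] (FractionRing K[X])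
    let t : FractionRing K[X] := algebraMap K[X] (FractionRing K[X]) X
    have hv0 : (fun s => algebraMap Ω (FractionRing K[X]) (A i' s) + t * algebraMap Ω (FractionRing K[X]) (W s)) ≠ 0 := by
      intro h0
      apply hA0 i'
      funext s
      have h2 := congrFun h0 s
      have h3 : algebraMap K[X] (FractionRing K[X]) (C (algebraMap Ω K (A i' s)) + X * C (algebraMap Ω K (W s))) = 0 := by
        rw [map_add, map_mul]
        refine Eq.trans ?_ h2
        have h4 : ∀ a : Ω, algebraMap K[X] (FractionRing K[X]) (C (algebraMap Ω K a)) = algebraMap Ω (FractionRing K[X]) a := by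
          intro a
          rw [← Polynomial.algebraMap_eq, ← IsScalarTower.algebraMap_apply K K[X] (FractionRing K[X]),
            ← IsScalarTower.algebraMap_apply Ω K (FractionRing K[X])]
        rw [h4, h4]
      have h5 := hinjB (h3.trans (map_zero _).symm)
      have h6 := congrArg (Polynomial.eval 0) h5
      simp only [eval_add, eval_C, eval_mul, eval_X, zero_mul, add_zero, eval_zero] at h6
      exact (algebraMap Ω K).injective (h6.trans (map_zero _).symm)
    have h2 := (hvan i' (FractionRing K[X]) _ hv0).1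
    have h3 : (fun l => ∑ j, algebraMap K (FractionRing K[X]) (φ l j) *
        MvPolynomial.aeval (fun s => algebraMap Ω (FractionRing K[X]) (A i' s) + t * algebraMap Ω (FractionRing K[X]) (W s))
          (F i' j)) = fun l => algebraMap K[X] (FractionRing K[X]) (Q i' l) := by
      funext l
      simp only [Q, map_sum, map_mul]
      refine Finset.sum_congr rfl fun j _ => ?_
      rw [aeval_line]
      congr 1
      have h4 : (Polynomial.aeval t : Ω[X] →ₐ[Ω] _).toRingHom =
          (algebraMap K[X] (FractionRing K[X])).comp (Polynomial.mapRingHom (algebraMap Ω K)) := by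
        apply Polynomial.ringHom_ext
        · intro a
          simp only [AlgHom.toRingHom_eq_coe, RingHom.coe_coe, aeval_C, RingHom.comp_apply, coe_mapRingHom, map_C]
          rw [← Polynomial.algebraMap_eq, ← IsScalarTower.algebraMap_apply K K[X] (FractionRing K[X]),
            ← IsScalarTower.algebraMap_apply Ω K (FractionRing K[X])]
        · simp [t]
      exact congr($h4 _)
    rw [h3] at h2
    have h4 : MvPolynomial.aeval (fun l => algebraMap K[X] (FractionRing K[X]) (Q i' l)) G =
        algebraMap K[X] (FractionRing K[X]) (MvPolynomial.aeval (fun l => Q i' l) G) :=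
      (MvPolynomial.aeval_algebraMap_apply (FractionRing K[X]) (fun l => Q i' l) G)
    rw [h4] at h2
    exact hinjB (h2.trans (map_zero _).symm)
  · intro i hi
    generalize Fin.ofNat (m + 1) i = i'
    obtain ⟨l, hl⟩ := (hvan i' K (fun s => algebraMap Ω K (A i' s)) (fun h0 => hA0 i' (by
      funext s
      exact (algebraMap Ω K).injective ((congrFun h0 s).trans (map_zero _).symm)))).2
    refine ⟨l, fun h0 => hl ?_⟩
    have h1 := hQeval i' l 0
    rw [map_zero, ← coeff_zero_eq_eval_zero, h0] at h1
    rw [h1]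
    refine Finset.sum_congr rfl fun j _ => ?_
    rw [Algebra.algebraMap_self, RingHom.id_apply]
    congr 1
    have h2 : (fun s => A i' s + 0 * W s) = A i' := by
      funext s; ring
    rw [h2]
    exact MvPolynomial.aeval_algebraMap_apply K (A i') (F i' j)
  · intro i hi hi'
    have hii : Fin.ofNat (m + 1) i ≠ 0 := by
      intro h0
      have := congrArg Fin.val h0
      rw [Fin.val_ofNat, Nat.mod_eq_of_lt (by omega)] at this
      exact hi.ne' this
    set i' := Fin.ofNat (m + 1) i with hi'def
    have hival : (i' : ℕ) = i := by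
      rw [hi'def, Fin.val_ofNat, Nat.mod_eq_of_lt (by omega)]
    refine ⟨par i' hii, ?_, ?_⟩
    · have := hpar i' hii
      rw [Fin.lt_def, hival] at this
      exact this
    · rw [Fin.ofNat_val_eq_self]
      set p := par i' hii with hp
      -- `w = α (A + b W)`
      set α : Ω := (w i' hii 0 * W 1 - w i' hii 1 * W 0) / (A p 0 * W 1 - A p 1 * W 0) with hα
      set β : Ω := (A p 0 * w i' hii 1 - A p 1 * w i' hii 0) / (A p 0 * W 1 - A p 1 * W 0) with hβ
      have hα0 : α ≠ 0 := by
        have := hwW i'
        simp only [w', dif_neg hii] at this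
        exact div_ne_zero this (hAW p)
      have hw' : w i' hii = fun s => α * (A p s + (β / α) * W s) := by
        funext s
        have h1 : α * (A p s + (β / α) * W s) = α * A p s + β * W s := by
          field_simp
        rw [h1, hα, hβ]
        exact decomp (hAW p) _ s
      refine ⟨β / α, u i' hii * α ^ E p, fun l => ?_⟩
      rw [cp_coeff (hQdeg p l)]
      have h1 := hQeval i' l 0
      rw [map_zero, ← coeff_zero_eq_eval_zero] at h1
      rw [h1, hQeval, Finset.mul_sum]
      refine Finset.sum_congr rfl fun j _ => ?_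
      have h2 : (fun s => A i' s + 0 * W s) = v i' hii := by
        funext s
        simp only [A, dif_neg hii]
        ring
      rw [h2, hvw i' hii j]
      have h3 : MvPolynomial.eval (w i' hii) (F p j) =
          α ^ E p * MvPolynomial.eval (fun s => A p s + (β / α) * W s) (F p j) := by
        rw [← eval_smul_of_isHomogeneous (hF p j), ← hw']
      rw [h3]
      simp only [map_mul, map_pow]
      ring

end Tree

end K519.TrBound
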