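import Groth.Agent.Fano.K519.RatTree
import Groth.Agent.Fano.K519.TreeAlg
import Groth.Agent.Fano.K519.SecVal
import Groth.Agent.S0844
import Groth.Agent.S1697
import Groth.Agent.Curves.K329.Deg
import Groth.Agent.Ega3B.SectExact

/-!
# Maps from a curve of genus zero to a hypersurface: the tree bound

`tree_bound`: the matrices `φ` over a field `K` such that the sections `Σ_j φ_{lj} ε_j` of an invertible module of degree `e` on a
connected curve of genus `0` over `Ω` generate and satisfy an equation `G = 0` have transcendence degree at most `n + e δ` over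
`Ω`.
-/

set_option autoImplicit false
universe u

open CategoryTheory AlgebraicGeometry Limits TopologicalSpace Opposite

namespace K519.TreeGeo

open Groth.Agent Groth.Agent.Fdesc.LocGen K390.PnSec K745.ConDef K475.PtCoord K475.RatClass K330.FormSec LefPen
open K519.SecVal K519.TrBound Groth.Agent.CurvesC

theorem eq_zero_of_genLocus {X : Scheme.{u}} [IsReduced X] {L : X.Modules} (hL : PicF.IsInvertible L) (s : Γ(L, ⊤))
    (h : CohB1.genLocus L (homOf s) = ⊥) : s = 0 := by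
  choose U e hU he using (isInvertible_iff L).mp hL
  refine res_ext _ U (fun x => le_top) (fun x _ => Opens.mem_iSup.mpr ⟨x, hU x⟩) fun x => ?_
  obtain ⟨c, hc⟩ := (he x).exists_eq (res L le_top s)
  have h1 := genLocus_inf_eq (homOf s) (he x) ((sec_homOf _ _).trans hc)
  rw [h, bot_inf_eq] at h1
  have h2 : c = 0 := (basicOpen_eq_bot_iff c).mp h1.symm
  rw [hc, h2, zero_smul, map_zero]

theorem qB_appTop {A B : Type u} [Field A] [CommRing B] [Algebra A B] (a : A) :
    (qB A B).appTop (γ A a) = γ B (algebraMap A B a) := by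
  have h1 := Scheme.ΓSpecIso_inv_naturality (CommRingCat.ofHom (algebraMap A B))
  exact (congr($(h1).hom a)).symm

theorem qB_self (A : Type u) [Field A] : qB A A = 𝟙 _ := by
  have h1 : CommRingCat.ofHom (algebraMap A A) = 𝟙 (CommRingCat.of A) := rfl
  change Spec.map (CommRingCat.ofHom (algebraMap A A)) = _
  rw [h1, Spec.map_id]

theorem qB_comp (A B D : Type u) [Field A] [Field B] [CommRing D] [Algebra A B] [Algebra B D] [Algebra A D]
    [IsScalarTower A B D] : qB A D = qB B D ≫ qB A B := by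
  change Spec.map _ = Spec.map _ ≫ Spec.map _
  rw [← Spec.map_comp, ← CommRingCat.ofHom_comp, ← IsScalarTower.algebraMap_eq]

section Point

variable {Ω K B : Type u} [Field Ω] [Field K] [Field B] [Algebra Ω K] [Algebra K B] [Algebra Ω B] [IsScalarTower Ω K B]
  {C C' : Scheme.{u}} {f : C ⟶ Spec (CommRingCat.of Ω)} {p : C' ⟶ C} {q : C' ⟶ Spec (CommRingCat.of K)}

theorem point (hpq : IsPullback p q f (qB Ω K)) {L : C.Modules} (hL : PicF.IsInvertible L) {N : ℕ}
    {ε : Fin N → Γ(L, ⊤)} {n d : ℕ} {φ : Fin (n + 1) → Fin N → K}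
    (hgen : Gens (fun l => ∑ j, (q.appTop (γ K (φ l j))) • pullTop p (ε j)))
    {G : MvPolynomial (Fin (n + 1)) Ω} (hG : G.IsHomogeneous d)
    (hvan : Van q (fun l => ∑ j, (q.appTop (γ K (φ l j))) • pullTop p (ε j))
      (G.map ((γ K).comp (algebraMap Ω K))))
    {h : Spec (CommRingCat.of B) ⟶ C} (hh : h ≫ f = qB Ω B) {b : Fin N → B} (hb : Crd ε h (fun j => γ B (b j))) :
    MvPolynomial.aeval (fun l => ∑ j, algebraMap K B (φ l j) * b j) G = 0 ∧
      ∃ l, ∑ j, algebraMap K B (φ l j) * b j ≠ 0 := by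
  obtain ⟨t, ht1, ht2⟩ : ∃ t : Spec (CommRingCat.of B) ⟶ C', t ≫ p = h ∧ t ≫ q = qB K B :=
    ⟨hpq.lift h (qB K B) (by rw [hh, qB_comp Ω K B]), hpq.lift_fst _ _ _, hpq.lift_snd _ _ _⟩
  subst ht1
  have hL' : PicF.IsInvertible ((Scheme.Modules.pullback p).obj L) := isInvertible_pullback p hL
  have h1 := (Crd.of_comp hb).sum (fun l j => q.appTop (γ K (φ l j)))
  have h2 : (fun l => ∑ j, t.appTop (q.appTop (γ K (φ l j))) * γ B (b j)) =
      fun l => γ B (∑ j, algebraMap K B (φ l j) * b j) := by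
    funext l
    rw [map_sum]
    refine Finset.sum_congr rfl fun j _ => ?_
    rw [map_mul]
    congr 1
    have h3 : t.appTop (q.appTop (γ K (φ l j))) = (t ≫ q).appTop (γ K (φ l j)) := by
      rw [Scheme.Hom.comp_appTop]; rfl
    rw [h3, ht2]
    exact qB_appTop _
  rw [h2] at h1
  constructor
  · have h3 := h1.van hL' (hG.map _) hvan
    rw [MvPolynomial.eval₂_map] at h3
    have h4 : ((t ≫ q).appTop.hom.comp ((γ K).comp (algebraMap Ω K))) = (γ B).comp (algebraMap Ω B) := by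
      ext a
      rw [ht2]
      refine (qB_appTop (A := K) (B := B) (algebraMap Ω K a)).trans ?_
      rw [← IsScalarTower.algebraMap_apply]
      rfl
    rw [h4] at h3
    have h5 := MvPolynomial.eval₂_comp_left (γ B) (algebraMap Ω B) (fun l => ∑ j, algebraMap K B (φ l j) * b j) G
    apply γ_injective B
    rw [map_zero]
    exact h5.trans h3
  · obtain ⟨l, hl⟩ := h1.exists_ne_zero hL' hgen
    exact ⟨l, fun h0 => hl (by rw [h0, map_zero])⟩

end Point

section Main

variable (Ω : Type u) [Field Ω] [IsAlgClosed Ω] (C : Scheme.{u}) [C.Over (Spec (CommRingCat.of Ω))]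
  [IsProper (C ↘ Spec (CommRingCat.of Ω))] [IsReduced C] [ConnectedSpace C]

omit [ConnectedSpace C] in
/-- A section which vanishes at all rational points of the members of a cover is zero. -/
theorem eq_zero_of_points {L : C.Modules} (hL : PicF.IsInvertible L) {m : ℕ}
    (ι : Fin (m + 1) → (CohB1.ProjSpace 1 Ω ⟶ C))
    (hcl : ∀ i, IsClosedImmersion (ι i)) (hcov : ∀ x : C, ∃ i, x ∈ Set.range (ι i)) (s : Γ(L, ⊤))
    (h : ∀ (i : Fin (m + 1)) (P : Spec (CommRingCat.of Ω) ⟶ CohB1.ProjSpace 1 Ω),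
      P ≫ CohB1.ProjSpace.toSpec 1 Ω = qB Ω Ω → pullTop (P ≫ ι i) s = 0) : s = 0 := by
  refine eq_zero_of_genLocus hL s ?_
  by_contra hne
  have hne' : ((CohB1.genLocus L (homOf s) : C.Opens) : Set C).Nonempty := by
    rw [Set.nonempty_iff_ne_empty]
    intro h0
    exact hne (Opens.ext h0)
  have hjac : JacobsonSpace C := LocallyOfFiniteType.jacobsonSpace (C ↘ (Spec (CommRingCat.of Ω)))
  obtain ⟨x, hxU, hx⟩ := nonempty_inter_closedPoints hne' (CohB1.genLocus L (homOf s)).2.isLocallyClosed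
  have hx' : IsClosed ({x} : Set C) := hx
  obtain ⟨i, y, rfl⟩ := hcov x
  have := hcl i
  have hyc : IsClosed ({y} : Set (CohB1.ProjSpace 1 Ω)) := by
    have h1 : ({y} : Set (CohB1.ProjSpace 1 Ω)) = ι i ⁻¹' {ι i y} := by
      ext w
      simp only [Set.mem_singleton_iff, Set.mem_preimage]
      constructor
      · rintro rfl
        rfl
      · intro hw
        exact (ι i).isClosedEmbedding.injective hw
    rw [h1]
    exact hx'.preimage (ι i).continuous
  have hP : IsProper (CohB1.ProjSpace.toSpec 1 Ω) := VarietyB.ProjSpaceProper.isProper_toSpec 1 Ω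
  let P := pointOfClosedPoint (CohB1.ProjSpace.toSpec 1 Ω) y hyc
  have hP1 : P ≫ CohB1.ProjSpace.toSpec 1 Ω = qB Ω Ω := by
    rw [qB_self]
    exact pointOfClosedPoint_comp _ _ _
  have h1 := h i P hP1
  let z : Spec (CommRingCat.of Ω) := IsLocalRing.closedPoint Ω
  have h2 : z ∈ CohB1.genLocus _ (homOf (pullTop (P ≫ ι i) s)) := by
    rw [genLocus_pullTop _ hL]
    change (P ≫ ι i) z ∈ CohB1.genLocus L (homOf s)
    rw [Scheme.Hom.comp_apply, pointOfClosedPoint_apply]
    exact hxU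
  obtain ⟨U, hxU', hU⟩ := (mem_genLocus_iff _ z).1 h2
  rw [sec_homOf, h1, map_zero] at hU
  have h3 : (1 : Γ(Spec (CommRingCat.of Ω), U)) = 0 := by
    apply hU.ext
    rw [smul_zero, smul_zero]
  have h5 := congrArg ((Spec (CommRingCat.of Ω)).presheaf.germ U z hxU') h3
  rw [map_one, map_zero] at h5
  exact one_ne_zero h5

/-- **The tree bound.** -/
theorem tree_bound (hdim : topologicalKrullDim C = 1) (hg : Curv2.genus Ω C = 0)
    {L : C.Modules} (hL : PicF.IsInvertible L) {e : ℕ} (hdeg : Curv2.deg Ω C L 1 = e)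
    {N : ℕ} (ε : Fin N → Γ(L, ⊤))
    (hε : ∀ a : Fin N → Ω, ∑ j, ((C ↘ Spec (CommRingCat.of Ω)).appTop (γ Ω (a j))) • ε j = 0 → a = 0)
    {K : Type u} [Field K] [Algebra Ω K] {C' : Scheme.{u}} {p : C' ⟶ C} {q : C' ⟶ Spec (CommRingCat.of K)}
    (hpq : IsPullback p q (C ↘ Spec (CommRingCat.of Ω)) (qB Ω K))
    {n d δ : ℕ} (φ : Fin (n + 1) → Fin N → K)
    (hgen : Gens (fun l => ∑ j, (q.appTop (γ K (φ l j))) • pullTop p (ε j)))
    {G : MvPolynomial (Fin (n + 1)) Ω} (hG : G ≠ 0) (hGd : G.IsHomogeneous d)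
    (hvan : Van q (fun l => ∑ j, (q.appTop (γ K (φ l j))) • pullTop p (ε j))
      (G.map ((γ K).comp (algebraMap Ω K))))
    (hH : H2 G δ) : TrLE Ω (n + e * δ) {x | ∃ l j, x = φ l j} := by
  obtain ⟨m, ι, hι, hcl, hcov, hmeet, hdegL⟩ := RatTree.exists_cover Ω C hdim hg
  have hP := fun i => S1697.result Ω 1 ((Scheme.Modules.pullback (ι i)).obj L) (isInvertible_pullback _ hL)
  choose z hz using hP
  have key : ∀ (i : Fin (m + 1)) (B : Type u) [Field B] [Algebra K B] [Algebra Ω B] [IsScalarTower Ω K B]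
      (P : Spec (CommRingCat.of B) ⟶ CohB1.ProjSpace 1 Ω), P ≫ CohB1.ProjSpace.toSpec 1 Ω = qB Ω B →
      ∀ b : Fin N → B, Crd ε (P ≫ ι i) (fun j => γ B (b j)) →
      MvPolynomial.aeval (fun l => ∑ j, algebraMap K B (φ l j) * b j) G = 0 ∧
      ∃ l, ∑ j, algebraMap K B (φ l j) * b j ≠ 0 := by
    intro i B _ _ _ _ P hP b hb
    exact point hpq hL hgen hGd hvan (h := P ≫ ι i) (by rw [Category.assoc, hι, hP]) hb
  -- the degrees are not negative
  have hz0 : ∀ i, 0 ≤ z i := by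
    intro i
    by_contra hneg
    obtain ⟨τ⟩ := hz i
    have h1 := S0844.result Ω 1 (z i) 0 (by omega) (by omega)
    have h2 : Subsingleton Γ(Twist.twistProjSpace 1 Ω (z i), ⊤) :=
      (Ega3B.SectExact.secEquiv (Twist.twistProjSpace 1 Ω (z i))).symm.toEquiv.subsingleton
    have h3 : ∀ j, pullTop (ι i) (ε j) = 0 := by
      intro j
      have h4 : τ.inv.app ⊤ (τ.hom.app ⊤ (pullTop (ι i) (ε j))) = pullTop (ι i) (ε j) := congr(($(τ.hom_inv_id).app ⊤) _)
      rw [← h4, Subsingleton.elim (τ.hom.app ⊤ (pullTop (ι i) (ε j))) 0, map_zero]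
    obtain ⟨P, hP⟩ := exists_HC (k := Ω) (B := K) (n := 1) ![1, 0] (j := 0) isUnit_one
    obtain ⟨e, he⟩ := exists_isGen _ (isInvertible_pullback P (isInvertible_pullback (ι i) hL))
    have h5 : Crd ε (P ≫ ι i) (fun j => γ K ((0 : Fin N → K) j)) := by
      refine Crd.comp ⟨e, he, fun j => ?_⟩
      have h6 : pullTop P (pullTop (ι i) (ε j)) = 0 := by
        rw [h3 j]
        exact map_zero (pullTopHom P _)
      refine h6.trans ?_
      have h7 : γ K ((0 : Fin N → K) j) = 0 := map_zero _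
      exact ((congrArg (· • e) h7).trans (zero_smul _ _)).symm
    obtain ⟨l, hl⟩ := (key i K P hP.1 0 h5).2
    exact hl (by simp)
  obtain ⟨E, hE⟩ : ∃ E : Fin (m + 1) → ℕ, ∀ i, z i = (E i : ℤ) :=
    ⟨fun i => (z i).toNat, fun i => (Int.toNat_of_nonneg (hz0 i)).symm⟩
  obtain rfl : z = fun i => (E i : ℤ) := funext hE
  have hτ : ∀ i, Nonempty ((Scheme.Modules.pullback (ι i)).obj L ≅ Twist.twistProjSpace 1 Ω (E i : ℤ)) := hz
  let τ := fun i => (hτ i).some
  -- the degree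
  have hsum : ∑ i, E i = e := by
    have h1 := hdegL L hL
    rw [hdeg] at h1
    have h2 : ∀ i, Curv2.deg Ω (CohB1.ProjSpace 1 Ω) ((Scheme.Modules.pullback (ι i)).obj L) 1 = E i := by
      intro i
      rw [K329.Deg.deg_congr (τ i), K329.Deg.deg_twist]
    rw [Finset.sum_congr rfl fun i _ => h2 i] at h1
    exact_mod_cast h1.symm
  -- the forms
  have hF0 : ∀ i j, ∃ F : Form 1 Ω (E i), (τ i).hom.app ⊤ (pullTop (ι i) (ε j)) = glob F := by
    intro i j
    obtain ⟨F, hF⟩ := K699.TwHom.exists_poly (n := 1) (R := Ω) ((τ i).hom.app ⊤ (pullTop (ι i) (ε j)))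
    refine ⟨F, tv_ext fun x => ?_⟩
    rw [tv_glob]
    exact hF x.1 x.2
  choose F hF using hF0
  have hcrd : ∀ (i : Fin (m + 1)) (B : Type u) [Field B] [Algebra Ω B]
      (P : Spec (CommRingCat.of B) ⟶ CohB1.ProjSpace 1 Ω) (v : Fin 2 → B), v ≠ 0 → HC P v →
      Crd ε (P ≫ ι i) (fun j => γ B (MvPolynomial.aeval v (F i j).1)) := by
    intro i B _ _ P v hv hP
    obtain ⟨j₀, hj₀⟩ := Function.ne_iff.mp hv
    exact crd_form (ι i) (τ i) (F i) (hF i) hP (j₀ := j₀) (IsUnit.mk0 _ hj₀)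
  rw [← hsum]
  refine tree_forms hG hH m N E (fun i j => (F i j).1)
    (fun i j => (MvPolynomial.mem_homogeneousSubmodule _ _).mp (F i j).2) φ ?_ ?_ ?_
  · intro i B _ _ _ _ v hv
    obtain ⟨j₀, hj₀⟩ := Function.ne_iff.mp hv
    obtain ⟨P, hP⟩ := exists_HC (k := Ω) v (IsUnit.mk0 _ hj₀)
    exact key i B P hP.1 _ (hcrd i B P v hv hP)
  · intro i hi
    obtain ⟨j, hj, P, Q, hP, hQ, hPQ⟩ := hmeet i hi
    obtain ⟨v, hv, hPv⟩ := exists_HC' P (hP.trans (qB_self Ω).symm)
    obtain ⟨w, hw, hQw⟩ := exists_HC' Q (hQ.trans (qB_self Ω).symm)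
    have h1 := hcrd i Ω P v hv hPv
    have h2 := hcrd j Ω Q w hw hQw
    rw [← hPQ] at h2
    obtain ⟨u, -, hu⟩ := h2.unit h1
    obtain ⟨u, rfl⟩ := γ_surjective Ω u
    refine ⟨j, hj, v, w, u, hv, hw, fun a => γ_injective Ω ?_⟩
    rw [map_mul]
    exact hu a
  · intro a ha
    refine hε a (eq_zero_of_points Ω C hL ι hcl hcov _ fun i P hP => ?_)
    obtain ⟨v, hv, hPv⟩ := exists_HC' P hP
    have h1 := (hcrd i Ω P v hv hPv).sum (J := Unit)
      (fun _ j => (C ↘ Spec (CommRingCat.of Ω)).appTop (γ Ω (a j)))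
    obtain ⟨g, hg, h2⟩ := h1
    rw [h2 ()]
    have h3 : ∀ j, (P ≫ ι i).appTop ((C ↘ Spec (CommRingCat.of Ω)).appTop (γ Ω (a j))) = γ Ω (a j) := by
      intro j
      have h4 : (P ≫ ι i) ≫ (C ↘ Spec (CommRingCat.of Ω)) = qB Ω Ω := by
        rw [Category.assoc, hι, hP]
      have h5 : (P ≫ ι i).appTop ((C ↘ Spec (CommRingCat.of Ω)).appTop (γ Ω (a j))) =
          ((P ≫ ι i) ≫ (C ↘ Spec (CommRingCat.of Ω))).appTop (γ Ω (a j)) := by
        rw [Scheme.Hom.comp_appTop]; rfl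
      rw [h5, h4]
      exact qB_appTop _
    have h4 : ∑ j, (P ≫ ι i).appTop ((C ↘ Spec (CommRingCat.of Ω)).appTop (γ Ω (a j))) *
        γ Ω (MvPolynomial.aeval v (F i j).1) = 0 := by
      have h5 := congrArg (fun z => γ Ω (MvPolynomial.aeval v z)) (ha i)
      simp only [map_sum, map_smul, map_zero, smul_eq_mul, map_mul] at h5
      rw [← h5]
      refine Finset.sum_congr rfl fun j _ => ?_
      rw [h3 j]
    rw [h4, zero_smul]

end Main

end K519.TreeGeo
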